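import Groth.Agent.Lib.DiagLift19.Basic

/-!
# Reduction of an affine group modulo an ideal, as a group
-/

set_option autoImplicit false
set_option linter.style.haveILetI false
set_option backward.isDefEq.respectTransparency.types false
set_option maxSynthPendingDepth 3
universe u

open CategoryTheory Limits MonoidalCategory CartesianMonoidalCategory MonObj AlgebraicGeometry
open scoped TensorProduct

noncomputable section

namespace Groth.Agent.CentLift20

open MTRigid29 DiagGL

variable {R : Type u} [CommRing R] (J : Ideal R) (A : Type u) [CommRing A] [HopfAlgebra R A]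

theorem isMonHom_bcSpIso : IsMonHom (bcSpIso J A).hom := by
  refine TorsorSch25.isMonHom_of_points _ fun T z z' => ev_injective fun b => ?_
  induction b using TensorProduct.induction_on with
  | zero => simp
  | add x y hx hy => simp only [map_add, hx, hy]
  | tmul t a =>
    have ht : t ⊗ₜ[R] a = algebraMap (R ⧸ J) _ t * ((1 : R ⧸ J) ⊗ₜ[R] a) := by
      rw [Algebra.TensorProduct.algebraMap_apply, Algebra.TensorProduct.tmul_mul_tmul, _root_.mul_one,
        _root_.one_mul, Algebra.algebraMap_self_apply]
    rw [ht, map_mul, map_mul, ev_algebraMap, ev_algebraMap, DiagLift19.ev_comp_bcSpIso, fl_mul, DiagGL.ev_mul,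
      DiagGL.ev_mul]
    congr 1
    simp only [Bialgebra.comulAlgHom_apply]
    rw [TensorProduct.comul_tmul, ← (Coalgebra.Repr.arbitrary R a).eq]
    simp [TensorProduct.tmul_sum, TensorProduct.sum_tmul, map_sum, DiagLift19.ev_comp_bcSpIso]

end Groth.Agent.CentLift20
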