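import Groth.Agent.Lib.UnivSubm25.Graph
import Groth.Agent.Lib.AlgSpDescent.SchemeSource
import Groth.Agent.Lib.QuotField20.Saturate
import Mathlib.AlgebraicGeometry.Morphisms.ClosedImmersion
import Mathlib.CategoryTheory.Monoidal.Cartesian.Over

/-!
# Lifting points of étale schemes along surjective closed immersions
-/

set_option autoImplicit false
set_option linter.style.haveILetI false
set_option linter.unusedSectionVars false
set_option backward.isDefEq.respectTransparency.types false
universe u

open CategoryTheory Limits MonoidalCategory CartesianMonoidalCategory AlgebraicGeometry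

noncomputable section

namespace Groth.Agent.CentLift20

variable {S S₀ : Scheme.{u}} (i : S₀ ⟶ S) [IsClosedImmersion i] [Surjective i]

/-- The restriction of `X` to the closed subscheme is a closed immersion. -/
theorem isClosedImmersion_fst (X : Over S) : IsClosedImmersion (fst X (Over.mk i)).left :=
  inferInstanceAs (IsClosedImmersion (pullback.fst X.hom i))

theorem surjective_fst (X : Over S) : Surjective (fst X (Over.mk i)).left :=
  inferInstanceAs (Surjective (pullback.fst X.hom i))

/-- Points of an étale scheme agreeing on the closed subscheme are equal. -/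
theorem etale_ext {X P : Over S} [Etale P.hom] (a b : X ⟶ P)
    (h : fst X (Over.mk i) ≫ a = fst X (Over.mk i) ≫ b) : a = b := by
  haveI := surjective_fst i X
  exact Over.OverMorphism.ext (UnivSubm25.hom_ext_of_surjective P.hom a.left b.left
    ((Over.w a).trans (Over.w b).symm) (fst X (Over.mk i)).left (congrArg CommaMorphism.left h))

/-- Points of an étale scheme on the closed subscheme lift. -/
theorem etale_lift {X P : Over S} [Etale P.hom] (f₀ : X ⊗ Over.mk i ⟶ P) :
    ∃ f : X ⟶ P, fst X (Over.mk i) ≫ f = f₀ := by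
  let X₀ := (X ⊗ Over.mk i).left
  let c : X₀ ⟶ X.left := (fst X (Over.mk i)).left
  haveI : IsClosedImmersion c := isClosedImmersion_fst i X
  haveI : Surjective c := surjective_fst i X
  let p : pullback X.hom P.hom ⟶ X.left := pullback.fst X.hom P.hom
  haveI : Etale p := MorphismProperty.pullback_fst _ _ ‹Etale P.hom›
  have hsq : c ≫ X.hom = f₀.left ≫ P.hom :=
    (Over.w (fst X (Over.mk i))).trans (Over.w f₀).symm
  let p₀ : pullback c p ⟶ X₀ := pullback.fst c p
  haveI : Etale p₀ := MorphismProperty.pullback_fst _ _ ‹Etale p›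
  let q : pullback c p ⟶ pullback X.hom P.hom := pullback.snd c p
  haveI : IsClosedImmersion q := MorphismProperty.pullback_snd _ _ ‹IsClosedImmersion c›
  haveI : Surjective q := MorphismProperty.pullback_snd _ _ ‹Surjective c›
  let σ : X₀ ⟶ pullback c p := pullback.lift (𝟙 X₀) (pullback.lift c f₀.left hsq) (by
    rw [Category.id_comp, pullback.lift_fst])
  have hσ : σ ≫ p₀ = 𝟙 X₀ := pullback.lift_fst _ _ _
  haveI : IsOpenImmersion σ := IsQuot25.isOpenImmersion_section p₀ σ hσ
  have hqinj : Function.Injective q := q.isClosedEmbedding.injective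
  have hopen : IsOpen (q '' Set.range σ) := by
    have : q '' Set.range σ = (q '' (Set.range σ)ᶜ)ᶜ := by
      rw [Set.image_compl_eq ⟨hqinj, q.surjective⟩, compl_compl]
    rw [this]
    exact (q.isClosedEmbedding.isClosedMap _ σ.isOpenEmbedding.isOpen_range.isClosed_compl).isOpen_compl
  let W : (pullback X.hom P.hom).Opens := ⟨q '' Set.range σ, hopen⟩
  let l : X₀ ⟶ W := IsOpenImmersion.lift W.ι (σ ≫ q) (by
    rw [Scheme.Opens.range_ι]
    rintro _ ⟨x, rfl⟩
    exact ⟨σ x, ⟨x, rfl⟩, rfl⟩)
  have hl : l ≫ W.ι = σ ≫ q := IsOpenImmersion.lift_fac _ _ _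
  haveI : Surjective l := ⟨fun w => by
    obtain ⟨_, ⟨x, rfl⟩, hx⟩ := w.2
    refine ⟨x, W.ι.isOpenEmbedding.injective ?_⟩
    rw [← Scheme.Hom.comp_apply, hl]
    exact hx⟩
  have hlc : l ≫ W.ι ≫ p = c := by
    rw [← Category.assoc, hl, Category.assoc]
    show σ ≫ pullback.snd c p ≫ p = c
    rw [← pullback.condition, ← Category.assoc, show σ ≫ pullback.fst c p = 𝟙 X₀ from hσ, Category.id_comp]
  haveI : Surjective (W.ι ≫ p) := by
    haveI : Surjective (l ≫ W.ι ≫ p) := hlc.symm ▸ ‹Surjective c›
    exact Surjective.of_comp l _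
  haveI : UniversallyInjective (W.ι ≫ p) := by
    rw [UniversallyInjective.iff_diagonal]
    haveI : Surjective (pullback.diagonal (l ≫ W.ι ≫ p)) :=
      (UniversallyInjective.iff_diagonal _).1 (hlc.symm ▸ inferInstance)
    haveI : Surjective (pullback.map (l ≫ W.ι ≫ p) (l ≫ W.ι ≫ p) (W.ι ≫ p) (W.ι ≫ p) l l (𝟙 _)
        (by simp) (by simp)) := by
      refine ⟨?_⟩
      intro z
      have h := Scheme.Pullback.range_map (f := l ≫ W.ι ≫ p) (g := l ≫ W.ι ≫ p) (f' := W.ι ≫ p) (g' := W.ι ≫ p)
        l l (𝟙 _) (by simp) (by simp)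
      exact h.ge ⟨l.surjective _, l.surjective _⟩
    have e : pullback.diagonal (l ≫ W.ι ≫ p) ≫ pullback.map _ _ (W.ι ≫ p) (W.ι ≫ p) l l (𝟙 _) (by simp) (by simp) =
        l ≫ pullback.diagonal (W.ι ≫ p) := by
      apply pullback.hom_ext
      · refine ((Category.assoc _ _ _).trans ((congrArg (_ ≫ ·) (pullback.lift_fst _ _ _)).trans
          ((Category.assoc _ _ _).symm.trans ((congrArg (· ≫ l) (pullback.diagonal_fst _)).trans ?_)))).trans
            ((Category.assoc _ _ _).trans (congrArg (l ≫ ·) (pullback.diagonal_fst _))).symm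
        exact (Category.id_comp l).trans (Category.comp_id l).symm
      · refine ((Category.assoc _ _ _).trans ((congrArg (_ ≫ ·) (pullback.lift_snd _ _ _)).trans
          ((Category.assoc _ _ _).symm.trans ((congrArg (· ≫ l) (pullback.diagonal_snd _)).trans ?_)))).trans
            ((Category.assoc _ _ _).trans (congrArg (l ≫ ·) (pullback.diagonal_snd _))).symm
        exact (Category.id_comp l).trans (Category.comp_id l).symm
    haveI : Surjective (l ≫ pullback.diagonal (W.ι ≫ p)) := e ▸ inferInstance
    exact Surjective.of_comp l _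
  haveI : Etale (W.ι ≫ p) := inferInstance
  haveI := UnivSubm25.isOpenImmersion_of_etale_univInj (W.ι ≫ p)
  haveI : IsIso (W.ι ≫ p) := (isIso_iff_isOpenImmersion_and_surjective _).mpr ⟨inferInstance, inferInstance⟩
  let f : X.left ⟶ P.left := inv (W.ι ≫ p) ≫ W.ι ≫ pullback.snd X.hom P.hom
  refine ⟨Over.homMk f (by
    rw [Category.assoc, Category.assoc, ← pullback.condition, ← Category.assoc W.ι, IsIso.inv_hom_id_assoc]),
    Over.OverMorphism.ext ?_⟩
  show c ≫ f = f₀.left
  have : c ≫ inv (W.ι ≫ p) = l := by rw [IsIso.comp_inv_eq, hlc]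
  rw [← Category.assoc, this, ← Category.assoc, hl, Category.assoc, show q = pullback.snd c p from rfl,
    pullback.lift_snd_assoc, pullback.lift_snd]

end Groth.Agent.CentLift20
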