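import Groth.Agent.Lib.CentLift20.Kernel
import Groth.Agent.Lib.DiagGL.Chars

/-!
# Lifting central homomorphisms from finite étale groups of multiplicative type
-/

set_option autoImplicit false
set_option linter.style.haveILetI false
set_option linter.unusedSectionVars false
set_option backward.isDefEq.respectTransparency.types false
universe u

open CategoryTheory Limits MonoidalCategory CartesianMonoidalCategory MonObj AlgebraicGeometry
open Groth.Agent.DiagGL

noncomputable section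

namespace Groth.Agent.CentLift20

variable {S S₀ : Scheme.{u}} (i : S₀ ⟶ S) {G H : Over S} [GrpObj G] [GrpObj H]

/-- A multiplicative map is a homomorphism. -/
theorem isMonHom_of_mul (u : H ⟶ G)
    (h : ∀ (X : Over S) (a b : X ⟶ H), (a * b) ≫ u = (a ≫ u) * (b ≫ u)) : IsMonHom u where
  one_hom := by
    have h1 := h (𝟙_ (Over S)) 1 1
    rw [_root_.one_mul, left_eq_mul] at h1
    rwa [Hom.one_def, Hom.one_def, toUnit_unit, Category.id_comp, Category.id_comp] at h1
  mul_hom := by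
    rw [MonObj.mul_eq_mul, MonObj.mul_eq_mul, h, MonObj.comp_mul, tensorHom_fst, tensorHom_snd]

/-- The pieces: an open over which `n` is invertible and kills the source. -/
structure Good (H : Over S) [GrpObj H] (n : ℕ) (U : S.Opens) : Prop where
  unit : ∀ s ∈ U, (n : S.residueField s) ≠ 0
  kill : ∀ (X : Over S) (a : X ⟶ H), (∀ z : X.left, X.hom z ∈ U) → a ^ n = 1

theorem Good.mul {n m : ℕ} {U U' : S.Opens} (h : Good H n U) (h' : Good H m U') :
    Good H (n * m) (U ⊓ U') where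
  unit s hs := by
    rw [Nat.cast_mul]
    exact mul_ne_zero (h.unit s hs.1) (h'.unit s hs.2)
  kill X a ha := by rw [pow_mul, h.kill X a fun z => (ha z).1, one_pow]

theorem Good.le {n : ℕ} {U U' : S.Opens} (h : Good H n U) (hle : U' ≤ U) : Good H n U' where
  unit s hs := h.unit s (hle hs)
  kill X a ha := h.kill X a fun z => hle (ha z)

/-- Restriction to the preimage of an open of the base. -/
abbrev res (X : Over S) (U : S.Opens) : Over S := Over.mk ((X.hom ⁻¹ᵁ U).ι ≫ X.hom)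

/-- The inclusion. -/
abbrev inc (X : Over S) (U : S.Opens) : res X U ⟶ X := Over.homMk (X.hom ⁻¹ᵁ U).ι rfl

theorem hom_res_mem (X : Over S) (U : S.Opens) (z : (res X U).left) : (res X U).hom z ∈ U := z.2

theorem exists_res {X Y : Over S} (U : S.Opens) (a : X ⟶ Y) (hX : ∀ z : X.left, X.hom z ∈ U) :
    ∃ a' : X ⟶ res Y U, a' ≫ inc Y U = a := by
  have hr : Set.range a.left ⊆ Set.range (Y.hom ⁻¹ᵁ U).ι := by
    rw [Scheme.Opens.range_ι]
    rintro _ ⟨z, rfl⟩
    show (a.left ≫ Y.hom) z ∈ U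
    rw [Over.w a]
    exact hX z
  refine ⟨Over.homMk (IsOpenImmersion.lift (Y.hom ⁻¹ᵁ U).ι a.left hr) ?_,
    Over.OverMorphism.ext (IsOpenImmersion.lift_fac _ _ _)⟩
  show IsOpenImmersion.lift _ _ _ ≫ (Y.hom ⁻¹ᵁ U).ι ≫ Y.hom = X.hom
  rw [IsOpenImmersion.lift_fac_assoc, Over.w a]

/-- Morphisms agreeing over an open cover of the base are equal. -/
theorem hom_ext_local {J : Type u} (U : J → S.Opens) (hU : ∀ s, ∃ t, s ∈ U t) {X Y : Over S} (c d : X ⟶ Y)
    (h : ∀ t, inc X (U t) ≫ c = inc X (U t) ≫ d) : c = d := by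
  refine Over.OverMorphism.ext ?_
  refine (X.left.openCoverOfIsOpenCover (fun t => X.hom ⁻¹ᵁ U t) ?_).hom_ext _ _ fun t =>
    congrArg CommaMorphism.left (h t)
  exact TopologicalSpace.IsOpenCover.mk (eq_top_iff.2 fun x _ =>
    TopologicalSpace.Opens.mem_iSup.2 (hU (X.hom x)))

variable [IsClosedImmersion i] [Surjective i] [Flat G.hom] [LocallyOfFinitePresentation G.hom]
variable [Etale H.hom]

/-- The unit lands in the étale locus over an open where `n` is invertible. -/
theorem Good.unit_mem {n : ℕ} {U : S.Opens} (h : Good H n U) (t : (𝟙_ (Over S)).left) (ht : t ∈ U) :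
    η[G].left t ∈ V G n := by
  refine unit_mem_V G n t ?_
  have : G.hom (η[G].left t) = t := by
    rw [← Scheme.Hom.comp_apply, Over.w η[G]]
    rfl
  rw [this]
  exact h.unit t ht

theorem exists_lift [IsFinite H.hom]
    (hk : ∀ s, ∃ n : ℕ, (n : S.residueField s) ≠ 0 ∧
      ∀ x : H.left, H.hom x = s → ((𝟙 H : H ⟶ H) ^ n).left x ∈ Set.range η[H].left)
    (U₀ : H ⊗ Over.mk i ⟶ G)
    (hmul : ∀ (X : Over S) (a b : X ⟶ H) (t : X ⟶ Over.mk i),
      lift (a * b) t ≫ U₀ = (lift a t ≫ U₀) * (lift b t ≫ U₀))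
    (hc : ∀ (X : Over S) (y : X ⟶ H ⊗ Over.mk i) (g : X ⟶ G), Commute (y ≫ U₀) g) :
    ∃ u : H ⟶ G, IsMonHom u ∧ fst H (Over.mk i) ≫ u = U₀ ∧
      (∀ (X : Over S) (x : X ⟶ H) (g : X ⟶ G), (x ≫ u) * g = g * (x ≫ u)) ∧
      ∀ u' : H ⟶ G, IsMonHom u' → fst H (Over.mk i) ≫ u' = U₀ → u' = u := by
  let Z : Over S := Over.mk i
  haveI : IsOpenImmersion η[H].left := IsQuot25.isOpenImmersion_section H.hom η[H].left (Over.w η[H])
  have hgood : ∀ s, ∃ (n : ℕ) (U : S.Opens), s ∈ U ∧ Good H n U := by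
    intro s
    obtain ⟨n, hn, hx⟩ := hk s
    let E : Set H.left := ((𝟙 H : H ⟶ H) ^ n).left ⁻¹' Set.range η[H].left
    have hE : IsOpen E :=
      (η[H].left.isOpenEmbedding.isOpen_range).preimage (((𝟙 H : H ⟶ H) ^ n).left.continuous)
    let C : S.Opens := ⟨(H.hom '' Eᶜ)ᶜ, (H.hom.isClosedMap _ hE.isClosed_compl).isOpen_compl⟩
    refine ⟨n, C ⊓ S.basicOpen (n : Γ(S, ⊤)), ⟨?_, ?_⟩, ⟨fun s' hs' => ?_, fun X a ha => ?_⟩⟩
    · rintro ⟨x, hxE, hxs⟩
      exact hxE (hx x hxs)
    · refine (S.evaluation_ne_zero_iff_mem_basicOpen (U := (⊤ : S.Opens)) s trivial _).1 ?_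
      rwa [map_natCast]
    · have := (S.evaluation_ne_zero_iff_mem_basicOpen (U := (⊤ : S.Opens)) s' trivial _).2 hs'.2
      rwa [map_natCast] at this
    · have hr : Set.range (a ^ n).left ⊆ Set.range η[H].left := by
        rintro _ ⟨z, rfl⟩
        rw [← Category.comp_id a, ← MonObj.comp_pow]
        by_contra hz
        exact (ha z).1 ⟨a.left z, hz, by rw [← Scheme.Hom.comp_apply, Over.w a]⟩
      let l := IsOpenImmersion.lift η[H].left (a ^ n).left hr
      have hl : l ≫ η[H].left = (a ^ n).left := IsOpenImmersion.lift_fac _ _ _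
      have hlX : l = X.hom := by
        have h := congrArg (· ≫ H.hom) hl
        simp only [Category.assoc] at h
        rw [Over.w η[H], Over.w (a ^ n)] at h
        exact (Category.comp_id l).symm.trans h
      refine Over.OverMorphism.ext ?_
      rw [← hl, hlX]
      rfl
  choose n U hsU hG using hgood
  have hone : ∀ (X : Over S) (t : X ⟶ Z), lift 1 t ≫ U₀ = (1 : X ⟶ G) := fun X t => by
    have h := hmul X 1 1 t
    rwa [_root_.one_mul, left_eq_mul] at h
  have hpow : ∀ (X : Over S) (a : X ⟶ H) (t : X ⟶ Z) (m : ℕ),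
      lift (a ^ m) t ≫ U₀ = (lift a t ≫ U₀) ^ m := fun X a t m => by
    induction m with
    | zero => rw [pow_zero, pow_zero, hone]
    | succ m ih => rw [pow_succ, pow_succ, hmul, ih]
  have hrange : ∀ (N : ℕ) (W : S.Opens), Good H N W → ∀ (X : Over S) (a : X ⟶ H),
      (∀ z : X.left, X.hom z ∈ W) → Set.range ((a ▷ Z) ≫ U₀).left ⊆ (V G N : Set G.left) := by
    intro N W hW X a hX
    obtain ⟨a', rfl⟩ := exists_res W a hX
    rw [comp_whiskerRight, Category.assoc, Over.comp_left]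
    rintro _ ⟨z, rfl⟩
    rw [Scheme.Hom.comp_apply]
    revert z
    suffices h : Set.range ((inc H W ▷ Z) ≫ U₀).left ⊆ (V G N : Set G.left) from fun z => h ⟨_, rfl⟩
    haveI : Etale (res H W).hom :=
      MorphismProperty.comp_mem @Etale _ _ (inferInstance : Etale (H.hom ⁻¹ᵁ W).ι) ‹Etale H.hom›
    refine range_subset_V G N i (res H W) _ ?_ (fun X y g => ?_) fun y => hW.unit_mem _ ?_
    · have e : (inc H W ▷ Z) = lift (fst (res H W) Z ≫ inc H W) (snd (res H W) Z) := by
        apply CartesianMonoidalCategory.hom_ext <;> simp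
      rw [e, ← hpow, hW.kill _ _ fun z => ?_, hone]
      rw [← Over.w (fst (res H W) Z), Scheme.Hom.comp_apply]
      exact hom_res_mem H W _
    · rw [← Category.assoc]
      exact hc _ _ g
    · rw [← Over.w (fst (res H W) Z), Scheme.Hom.comp_apply]
      exact hom_res_mem H W _
  have hext : ∀ (N : ℕ) (W : S.Opens), Good H N W → ∀ (X : Over S), (∀ z : X.left, X.hom z ∈ W) →
      ∀ (a : X ⟶ H) (c d : X ⟶ G), c ^ N = 1 → d ^ N = 1 → fst X Z ≫ c = (a ▷ Z) ≫ U₀ →
        fst X Z ≫ d = (a ▷ Z) ≫ U₀ → c = d := by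
    intro N W hW X hX a c d hc' hd' hcU hdU
    refine kill_ext G N i c d hc' hd' ?_ (hcU.trans hdU.symm)
    rw [hcU]
    exact hrange N W hW X a hX
  have hloc : ∀ s, ∃ v : res H (U s) ⟶ G, v ^ n s = 1 ∧ fst (res H (U s)) Z ≫ v = (inc H (U s) ▷ Z) ≫ U₀ := by
    intro s
    refine kill_lift G (n s) i _ (hrange _ _ (hG s) _ (inc H (U s)) (hom_res_mem H (U s))) ?_
    have e : (inc H (U s) ▷ Z) = lift (fst (res H (U s)) Z ≫ inc H (U s)) (snd (res H (U s)) Z) := by
      apply CartesianMonoidalCategory.hom_ext <;> simp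
    rw [e, ← hpow, (hG s).kill _ _ fun z => ?_, hone]
    rw [← Over.w (fst (res H (U s)) Z), Scheme.Hom.comp_apply]
    exact hom_res_mem H (U s) _
  choose v hv hvU using hloc
  let cov := H.left.openCoverOfIsOpenCover (fun s : S => H.hom ⁻¹ᵁ U s)
    (TopologicalSpace.IsOpenCover.mk (eq_top_iff.2 fun x _ =>
      TopologicalSpace.Opens.mem_iSup.2 ⟨H.hom x, hsU (H.hom x)⟩))
  have hglue : ∀ s t : S, pullback.fst (cov.f s) (cov.f t) ≫ (v s).left =
      pullback.snd (cov.f s) (cov.f t) ≫ (v t).left := by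
    intro s t
    let X : Over S := Over.mk (pullback.fst (cov.f s) (cov.f t) ≫ (res H (U s)).hom)
    let p : X ⟶ res H (U s) := Over.homMk (pullback.fst (cov.f s) (cov.f t)) rfl
    let q : X ⟶ res H (U t) := Over.homMk (pullback.snd (cov.f s) (cov.f t)) (by
      show _ ≫ cov.f t ≫ H.hom = _ ≫ cov.f s ≫ H.hom
      rw [← pullback.condition_assoc])
    have hpq : p ≫ inc H (U s) = q ≫ inc H (U t) := Over.OverMorphism.ext pullback.condition
    have hX : ∀ z : X.left, X.hom z ∈ U s ⊓ U t := fun z => by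
      refine ⟨hom_res_mem H (U s) (p.left z), ?_⟩
      rw [← Over.w q, Scheme.Hom.comp_apply]
      exact hom_res_mem H (U t) (q.left z)
    have h := hext _ _ ((hG s).mul (hG t)) X hX (p ≫ inc H (U s)) (p ≫ v s) (q ≫ v t)
      (by rw [← MonObj.comp_pow, pow_mul, hv, one_pow, MonObj.comp_one])
      (by rw [← MonObj.comp_pow, mul_comm, pow_mul, hv, one_pow, MonObj.comp_one])
      (by rw [comp_whiskerRight, Category.assoc, ← hvU, ← Category.assoc, ← Category.assoc, whiskerRight_fst])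
      (by rw [hpq, comp_whiskerRight, Category.assoc, ← hvU, ← Category.assoc, ← Category.assoc, whiskerRight_fst])
    exact congrArg CommaMorphism.left h
  obtain ⟨g, hg⟩ : ∃ g : H.left ⟶ G.left, ∀ s, cov.f s ≫ g = (v s).left :=
    ⟨cov.glueMorphisms (fun s => (v s).left) hglue, fun s => cov.ι_glueMorphisms _ hglue s⟩
  let u : H ⟶ G := Over.homMk g (cov.hom_ext _ _ fun s => by
    rw [← Category.assoc, hg]
    exact Over.w (v s))
  have hinc : ∀ s, inc H (U s) ≫ u = v s := fun s => Over.OverMorphism.ext (hg s)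
  have hcov : ∀ s : S, ∃ t : S, s ∈ U t := fun s => ⟨s, hsU s⟩
  have hu : fst H Z ≫ u = U₀ := by
    refine hom_ext_local U hcov _ _ fun s => ?_
    obtain ⟨b, hb⟩ := exists_res (U s) (inc (H ⊗ Z) (U s) ≫ fst H Z) (hom_res_mem _ _)
    have e : inc (H ⊗ Z) (U s) = lift b (inc (H ⊗ Z) (U s) ≫ snd H Z) ≫ (inc H (U s) ▷ Z) := by
      apply CartesianMonoidalCategory.hom_ext
      · simp [hb]
      · simp
    rw [e, Category.assoc, Category.assoc, ← hvU, whiskerRight_fst_assoc, hinc]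
  have hpt : ∀ (s : S) (X : Over S), (∀ z : X.left, X.hom z ∈ U s) → ∀ a : X ⟶ H, (a ≫ u) ^ n s = 1 := by
    intro s X hX a
    obtain ⟨a', rfl⟩ := exists_res (U s) a hX
    rw [Category.assoc, hinc, ← MonObj.comp_pow, hv, MonObj.comp_one]
  have hfst : ∀ (X : Over S) (a : X ⟶ H), fst X Z ≫ a ≫ u = (a ▷ Z) ≫ U₀ := fun X a => by
    rw [← hu, whiskerRight_fst_assoc]
  have hlift : ∀ (X : Over S) (a : X ⟶ H), (a ▷ Z) = lift (fst X Z ≫ a) (snd X Z) := fun X a => by
    apply CartesianMonoidalCategory.hom_ext <;> simp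
  have hcent : ∀ (X : Over S) (a : X ⟶ H) (g : X ⟶ G), (a ≫ u) * g = g * (a ≫ u) := by
    intro X a g
    refine hom_ext_local U hcov _ _ fun s => ?_
    rw [MonObj.comp_mul, MonObj.comp_mul, ← Category.assoc]
    generalize inc X (U s) ≫ a = a'
    generalize inc X (U s) ≫ g = g'
    have hX := hom_res_mem X (U s)
    have h := hext _ _ (hG s) _ hX a' (a' ≫ u) (g' * (a' ≫ u) * g'⁻¹) (hpt s _ hX a')
      (by rw [conj_pow, hpt s _ hX a', _root_.mul_one, mul_inv_cancel]) (hfst _ a')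
      (by
        rw [MonObj.comp_mul, MonObj.comp_mul, GrpObj.comp_inv, hfst]
        rw [(hc _ _ _).symm.eq, mul_inv_cancel_right])
    exact (eq_mul_inv_iff_mul_eq.1 h)
  have hhom : IsMonHom u := isMonHom_of_mul u fun X a b => by
    refine hom_ext_local U hcov _ _ fun s => ?_
    rw [← Category.assoc, MonObj.comp_mul, MonObj.comp_mul, ← Category.assoc, ← Category.assoc]
    generalize inc X (U s) ≫ a = a'
    generalize inc X (U s) ≫ b = b'
    have hX := hom_res_mem X (U s)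
    refine hext _ _ (hG s) _ hX (a' * b') _ _ (hpt s _ hX _) ?_ (hfst _ _) ?_
    · rw [(show Commute (a' ≫ u) (b' ≫ u) from hcent _ a' (b' ≫ u)).mul_pow, hpt s _ hX, hpt s _ hX,
        _root_.one_mul]
    · rw [MonObj.comp_mul, hfst, hfst, hlift, hlift, hlift, MonObj.comp_mul, hmul]
  refine ⟨u, hhom, hu, hcent, fun u' hu' hu'U => ?_⟩
  haveI := hu'
  refine hom_ext_local U hcov _ _ fun s => ?_
  have hX := hom_res_mem H (U s)
  refine hext _ _ (hG s) _ hX (inc H (U s)) _ _ ?_ (hpt s _ hX _) ?_ (hfst _ _)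
  · rw [← MonObj.pow_comp, (hG s).kill _ _ hX, MonObj.one_comp]
  · rw [← hu'U, whiskerRight_fst_assoc]

/-- Version for a homomorphism between the restrictions to the closed subscheme. -/
theorem exists_lift_bc [IsFinite H.hom]
    (hk : ∀ s, ∃ n : ℕ, (n : S.residueField s) ≠ 0 ∧
      ∀ x : H.left, H.hom x = s → ((𝟙 H : H ⟶ H) ^ n).left x ∈ Set.range η[H].left)
    (u₀ : Red.bc i H ⟶ Red.bc i G) [IsMonHom u₀]
    (hc₀ : ∀ (X : Over S₀) (x : X ⟶ Red.bc i H) (g : X ⟶ Red.bc i G), (x ≫ u₀) * g = g * (x ≫ u₀)) :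
    ∃ u : H ⟶ G, IsMonHom u ∧ (Over.pullback i).map u = u₀ ∧
      (∀ (X : Over S) (x : X ⟶ H) (g : X ⟶ G), (x ≫ u) * g = g * (x ≫ u)) ∧
      ∀ u' : H ⟶ G, IsMonHom u' → (Over.pullback i).map u' = u₀ → u' = u := by
  let Z : Over S := Over.mk i
  let U₀ : H ⊗ Z ⟶ G := Over.homMk (u₀.left ≫ pullback.fst G.hom i) (by
    show (u₀.left ≫ pullback.fst G.hom i) ≫ G.hom = pullback.fst H.hom i ≫ H.hom
    rw [Category.assoc, pullback.condition, pullback.condition]
    exact (Category.assoc _ _ _).symm.trans (congrArg (· ≫ i) (Over.w u₀)))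
  have hiff : ∀ u : H ⟶ G, (Over.pullback i).map u = u₀ ↔ fst H Z ≫ u = U₀ := fun u => by
    constructor
    · intro h
      exact Over.OverMorphism.ext ((pullback.lift_fst _ _ _).symm.trans (congrArg (fun m : Red.bc i H ⟶ Red.bc i G => m.left ≫ pullback.fst G.hom i) h))
    · intro h
      refine Over.OverMorphism.ext (pullback.hom_ext ?_ ?_)
      · exact (pullback.lift_fst _ _ _).trans (congrArg CommaMorphism.left h)
      · exact (pullback.lift_snd _ _ _).trans (Over.w u₀).symm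
  have key : ∀ (X : Over S) (a : X ⟶ H) (t : X ⟶ Z), ∃ x : Over.mk t.left ⟶ Red.bc i H,
      fl i H x = (Over.homMk (𝟙 X.left) (by
        show 𝟙 X.left ≫ X.hom = t.left ≫ i
        rw [Category.id_comp]; exact (Over.w t).symm) : (Over.map i).obj (Over.mk t.left) ⟶ X) ≫ a ∧
      fl i G (x ≫ u₀) = (Over.homMk (𝟙 X.left) (by
        show 𝟙 X.left ≫ X.hom = t.left ≫ i
        rw [Category.id_comp]; exact (Over.w t).symm) : (Over.map i).obj (Over.mk t.left) ⟶ X) ≫
          lift a t ≫ U₀ := by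
    intro X a t
    obtain ⟨x, hx⟩ := fl_surjective i H (T := Over.mk t.left) ((Over.homMk (𝟙 X.left) (by
        show 𝟙 X.left ≫ X.hom = t.left ≫ i
        rw [Category.id_comp]; exact (Over.w t).symm) : (Over.map i).obj (Over.mk t.left) ⟶ X) ≫ a)
    refine ⟨x, hx, Over.OverMorphism.ext ?_⟩
    have hxl : x.left ≫ pullback.fst H.hom i = a.left := by
      have h := congrArg CommaMorphism.left hx
      simp only [fl, Over.mapPullbackAdj, Adjunction.mkOfHomEquiv_homEquiv] at h
      exact h.trans (Category.id_comp _)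
    have hxs : x.left ≫ pullback.snd H.hom i = t.left := Over.w x
    have e : (lift a t).left = x.left := by
      refine pullback.hom_ext ?_ ?_
      · exact (congrArg CommaMorphism.left (lift_fst a t)).trans hxl.symm
      · exact (congrArg CommaMorphism.left (lift_snd a t)).trans hxs.symm
    simp only [fl, Over.mapPullbackAdj, Adjunction.mkOfHomEquiv_homEquiv]
    show (x.left ≫ u₀.left) ≫ pullback.fst G.hom i = 𝟙 X.left ≫ (lift a t).left ≫ u₀.left ≫ pullback.fst G.hom i
    rw [Category.id_comp, e, Category.assoc]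
  have hepi : ∀ (X : Over S) (t : X ⟶ Z), Epi (Over.homMk (𝟙 X.left) (by
        show 𝟙 X.left ≫ X.hom = t.left ≫ i
        rw [Category.id_comp]; exact (Over.w t).symm) : (Over.map i).obj (Over.mk t.left) ⟶ X) := fun X t =>
    ⟨fun g h w => Over.OverMorphism.ext (by
      simpa using congrArg CommaMorphism.left w)⟩
  obtain ⟨u, hu1, hu2, hu3, hu4⟩ := exists_lift i hk U₀ (fun X a b t => by
    obtain ⟨x, hx, hx'⟩ := key X a t
    obtain ⟨y, hy, hy'⟩ := key X b t
    obtain ⟨z, hz, hz'⟩ := key X (a * b) t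
    obtain rfl : z = x * y := fl_injective i H (by rw [hz, fl_mul, hx, hy, MonObj.comp_mul])
    haveI := hepi X t
    rw [MonObj.mul_comp, fl_mul, hx', hy', ← MonObj.comp_mul] at hz'
    exact ((cancel_epi _).1 hz').symm) (fun X y g => by
    obtain ⟨x, -, hx'⟩ := key X (y ≫ fst H Z) (y ≫ snd H Z)
    obtain ⟨gx, hgx⟩ := fl_surjective i G (T := Over.mk (y ≫ snd H Z).left) ((Over.homMk (𝟙 X.left) (by
        show 𝟙 X.left ≫ X.hom = (y ≫ snd H Z).left ≫ i
        rw [Category.id_comp]; exact (Over.w (y ≫ snd H Z)).symm) : (Over.map i).obj (Over.mk (y ≫ snd H Z).left) ⟶ X) ≫ g)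
    have h := congrArg (fl i G) (hc₀ _ x gx)
    haveI := hepi X (y ≫ snd H Z)
    rw [fl_mul, fl_mul, hx', hgx, ← MonObj.comp_mul, ← MonObj.comp_mul] at h
    have h' := (cancel_epi _).1 h
    rwa [show lift (y ≫ fst H Z) (y ≫ snd H Z) = y by apply CartesianMonoidalCategory.hom_ext <;> simp] at h')
  exact ⟨u, hu1, (hiff u).2 hu2, hu3, fun u' h1 h2 => hu4 u' h1 ((hiff u').1 h2)⟩

end Groth.Agent.CentLift20

namespace Groth.Agent.CentLift20

/-- A nil ideal does not change the spectrum. -/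
theorem surjective_specMap_mk {A : Type u} [CommRing A] (J : Ideal A) (hJ : ∀ x ∈ J, IsNilpotent x) :
    Surjective (Spec.map (CommRingCat.ofHom (Ideal.Quotient.mk J))) := ⟨fun p => by
  obtain ⟨q, hq⟩ : p ∈ Set.range (PrimeSpectrum.comap (Ideal.Quotient.mk J)) := by
    rw [range_comap_of_surjective _ _ Ideal.Quotient.mk_surjective, Ideal.mk_ker]
    refine (PrimeSpectrum.mem_zeroLocus (R := A) _ _).2 ?_
    exact fun x hx => (hJ x hx).elim fun n hn => p.2.mem_of_pow_mem n (by rw [hn]; exact p.asIdeal.zero_mem)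
  exact ⟨q, hq⟩⟩

end Groth.Agent.CentLift20
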