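import Groth.Agent.Lib.MTRigid29.TrivGlobal
import Groth.Agent.Lib.MTRigid29.Global
import Groth.Agent.Lib.MTRigid29.BaseChange
import Groth.Agent.Lib.MultAct19.Pair
import Groth.Agent.Lib.EtaleQF.Basic
import Groth.Agent.Lib.MidExact25.Main

/-!
# Finite étale groups of multiplicative type are killed by an invertible integer
-/

set_option autoImplicit false
set_option linter.style.haveILetI false
set_option linter.unusedSectionVars false
set_option backward.isDefEq.respectTransparency.types false
set_option maxSynthPendingDepth 3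
universe u

open CategoryTheory Limits MonoidalCategory CartesianMonoidalCategory MonObj AlgebraicGeometry
open scoped TensorProduct
open Groth.Agent.DiagGL

noncomputable section

namespace Groth.Agent.CentLift20

variable {R : Type u} [CommRing R]

theorem etale_of_finite_smooth {X Y : Scheme.{u}} (f : X ⟶ Y) [IsFinite f] [Smooth f] : Etale f :=
  (EtaleQF.etale_iff_smooth_and_locallyQuasiFinite f).2 ⟨inferInstance, inferInstance⟩

/-- Finite reduced group algebras over a field: finite groups of order invertible in the field. -/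
theorem card_ne_zero {K : Type u} [Field K] (M : Type) [AddCommGroup M] [Module.Finite K (MonoidAlgebra K (Multiplicative M))]
    [_root_.IsReduced (MonoidAlgebra K (Multiplicative M))] :
    ∃ n : ℕ, (n : K) ≠ 0 ∧ ∀ a : Multiplicative M, a ^ n = 1 := by
  haveI : Finite (Multiplicative M) :=
    (MonoidAlgebra.basis (Multiplicative M) K).linearIndependent.finite
  refine ⟨Nat.card (Multiplicative M), fun h => ?_, fun a => pow_card_eq_one'⟩
  obtain ⟨p, hp⟩ := CharP.exists K
  rcases CharP.char_is_prime_or_zero K p with hpr | rfl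
  · haveI : Fact p.Prime := ⟨hpr⟩
    have hdvd : p ∣ Nat.card (Multiplicative M) := (CharP.cast_eq_zero_iff K p _).1 h
    obtain ⟨m, hm⟩ := exists_prime_orderOf_dvd_card' p hdvd
    haveI : CharP (MonoidAlgebra K (Multiplicative M)) p :=
      charP_of_injective_algebraMap (algebraMap K (MonoidAlgebra K (Multiplicative M))).injective p
    have h0 : (MonoidAlgebra.of K (Multiplicative M) m - 1) ^ p = 0 := by
      rw [sub_pow_char, ← map_pow, ← hm, pow_orderOf_eq_one, map_one, one_pow, sub_self]
    have h1 : m = 1 := MonoidAlgebra.of_injective (R := K)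
      (by rw [map_one]; exact sub_eq_zero.1 (IsReduced.eq_zero _ ⟨p, h0⟩))
    rw [h1, orderOf_one] at hm
    exact hpr.one_lt.ne hm
  · haveI := CharP.charP_to_charZero K
    exact Nat.card_pos.ne' (Nat.cast_eq_zero.1 h)

/-- A finite smooth group of multiplicative type is killed, over each point, by an integer invertible
at that point. -/
theorem exists_killed {H : Over (Spec (CommRingCat.of R))} [GrpObj H] [IsFinite H.hom] [Smooth H.hom]
    (hH : SGA3x.IsMultTypeFT H) (s : Spec (CommRingCat.of R)) :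
    ∃ n : ℕ, (n : (Spec (CommRingCat.of R)).residueField s) ≠ 0 ∧
      ∀ x : H.left, H.hom x = s → ((𝟙 H : H ⟶ H) ^ n).left x ∈ Set.range η[H].left := by
  obtain ⟨A, _, _, -, -, ⟨e⟩⟩ := MTRigid29.exists_model_affine (MTRigid29.isMT_of_ft hH)
  obtain ⟨S', f, -, hfs, -, hloc⟩ := hH
  obtain ⟨s', rfl⟩ := hfs.surj s
  obtain ⟨U, hsU, M, _, -, ⟨iso⟩⟩ := hloc s'
  let p : (U : Scheme.{u}) := ⟨s', hsU⟩
  let K := (U : Scheme.{u}).residueField p
  let C' : Chars M (Red.bc (U.ι ≫ f) H) := (charsDS (U : Scheme.{u}) M).transport iso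
  let q : Spec (CommRingCat.of K) ⟶ Spec (CommRingCat.of R) := (U : Scheme.{u}).fromSpecResidueField p ≫ U.ι ≫ f
  letI : Algebra R K := (Spec.preimage q).hom.toAlgebra
  have hq : Spec.map (CommRingCat.ofHom (algebraMap R K)) = q := Spec.map_preimage q
  have C : Nonempty (Chars M (Red.bc (Spec.map (CommRingCat.ofHom (algebraMap R K))) H)) := by
    rw [hq]
    exact ⟨MultAct19.charsComp _ _ (Chars.baseChange _ _ C')⟩
  obtain ⟨C⟩ := C
  obtain ⟨E⟩ := MTRigid29.nonempty_bialgEquiv e C
  let e' : (Grp.mk (CoactBr.sp R A)).X ⟶ H := e.hom.hom.hom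
  haveI : IsIso e' := inferInstanceAs (IsIso ((Grp.forget _).map e.hom))
  haveI : IsIso e'.left := inferInstanceAs (IsIso ((Over.forget _).map e'))
  have hfin : IsFinite (CoactBr.sp R A).hom := by
    rw [← Over.w e']
    infer_instance
  have het : Etale (CoactBr.sp R A).hom := by
    haveI := etale_of_finite_smooth H.hom
    rw [← Over.w e']
    exact MorphismProperty.comp_mem _ _ _ inferInstance ‹_›
  haveI : Algebra.Etale R A := RingHom.etale_algebraMap.1 ((HasRingHomProperty.Spec_iff (P := @Etale)).1 het)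
  haveI : Module.Finite R A := RingHom.finite_algebraMap.1 ((IsFinite.SpecMap_iff _).1 hfin)
  haveI : _root_.IsReduced (K ⊗[R] A) := Hens.isReduced_of_etale K (K ⊗[R] A)
  haveI : Module.Finite K (MonoidAlgebra K (Multiplicative M)) := Module.Finite.equiv E.toAlgEquiv.toLinearEquiv
  haveI : _root_.IsReduced (MonoidAlgebra K (Multiplicative M)) :=
    isReduced_of_injective E.toAlgEquiv.symm.toRingEquiv.toRingHom E.toAlgEquiv.symm.injective
  obtain ⟨n, hn, hn'⟩ := card_ne_zero (K := K) M
  refine ⟨n, fun h => hn ?_, fun x hx => ?_⟩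
  · exact (map_natCast ((U.ι ≫ f).residueFieldMap p).hom n).symm.trans
      ((congrArg ((U.ι ≫ f).residueFieldMap p).hom h).trans (map_zero _))
  · let HU := Red.bc (U.ι ≫ f) H
    have hpow : (𝟙 HU : HU ⟶ HU) ^ n = 1 := by
      have key : ∀ m : ℕ, ∀ a, C'.ch ((𝟙 HU : HU ⟶ HU) ^ m) a = C'.ch (𝟙 HU) a ^ m := by
        intro m
        induction m with
        | zero => exact fun a => by rw [pow_zero, pow_zero, C'.one]
        | succ m ih => exact fun a => by rw [pow_succ, pow_succ, C'.mul, ih]
      refine C'.inj fun a => ?_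
      rw [key, ← map_pow, hn', map_one, C'.one]
    obtain ⟨x', hx'⟩ := Scheme.Pullback.exists_preimage_pullback (f := H.hom) (g := U.ι ≫ f) x p hx
    let pr : HU.left ⟶ H.left := pullback.fst H.hom (U.ι ≫ f)
    have hcomp : pr ≫ ((𝟙 H : H ⟶ H) ^ n).left = ((𝟙 HU : HU ⟶ HU) ^ n).left ≫ pr := by
      let F := Over.pullback (U.ι ≫ f)
      have h2 : F.map ((𝟙 H : H ⟶ H) ^ n) = (𝟙 HU : HU ⟶ HU) ^ n :=
        (map_pow (F.homMonoidHom (X := H) (M := H)) (𝟙 H) n).trans (congrArg (· ^ n) (F.map_id H))
      rw [← h2]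
      exact (pullback.lift_fst _ _ _).symm
    have hone : (1 : HU ⟶ HU).left ≫ pr = pullback.fst H.hom (U.ι ≫ f) ≫ H.hom ≫ η[H].left := by
      let F := Over.pullback (U.ι ≫ f)
      have h2 : F.map (1 : H ⟶ H) = (1 : HU ⟶ HU) := map_one (F.homMonoidHom (X := H) (M := H))
      rw [← h2]
      exact (pullback.lift_fst _ _ _).trans (congrArg (_ ≫ ·) (by rw [MonObj.one_eq_one]; rfl))
    refine ⟨H.hom x, ?_⟩
    rw [← hx'.1, ← Scheme.Hom.comp_apply, ← Scheme.Hom.comp_apply, ← Scheme.Hom.comp_apply, hcomp, hpow, hone]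

end Groth.Agent.CentLift20
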