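import Groth.Agent.Lib.CentLift20.BcSp
import Groth.Agent.Lib.CentLift20.Hom
import Groth.Agent.Lib.CentLift20.Torsion
import Groth.Agent.Lib.MTRigid29.SpMultType
import Groth.Agent.Lib.MTRigid29.LiftHom
import Groth.Agent.Lib.MultType.FlatIso
import Groth.Agent.Lib.MultType.Family
import Groth.Agent.Lib.Dev4.GoodOpen
import Groth.Agent.Lib.MTRigid29.SubgrpLift
import Groth.Agent.S2973
import Groth.Agent.S2979

/-!
# Finite étale groups of multiplicative type lift along nil ideals
-/

set_option autoImplicit false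
set_option linter.style.haveILetI false
set_option backward.isDefEq.respectTransparency.types false
set_option maxSynthPendingDepth 3
universe u

open CategoryTheory Limits MonoidalCategory CartesianMonoidalCategory MonObj AlgebraicGeometry
open scoped TensorProduct

noncomputable section

namespace Groth.Agent.CentLift20

variable {R : Type u} [CommRing R]

/-- A group of multiplicative type with finite reduction modulo a nil ideal is finitely presented as a module. -/
theorem finitePresentation_of_isMultType (J : Ideal R) (hJ : ∀ x ∈ J, IsNilpotent x) {A : Type u} [CommRing A]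
    [HopfAlgebra R A] (h : SGA3b.IsMultType R A) [Module.Finite (R ⧸ J) ((R ⧸ J) ⊗[R] A)] :
    Module.FinitePresentation R A := by
  obtain ⟨s, hs, hf⟩ := h
  haveI : ∀ r : s, IsLocalizedModule (Submonoid.powers (r : R))
      (TensorProduct.mk R (Localization.Away (r : R)) A 1) := fun r =>
    (isLocalizedModule_iff_isBaseChange _ (Localization.Away (r : R)) _).2 (TensorProduct.isBaseChange _ _ _)
  refine Module.FinitePresentation.of_localizationSpan' s hs
    (Rₚ := fun g : s => Localization.Away g.1) (Mₚ := fun g : s => Localization.Away g.1 ⊗[R] A)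
    (fun g => TensorProduct.mk R (Localization.Away g.1) A 1) fun g => ?_
  obtain ⟨E, _, _, _, hd⟩ := hf g.1 g.2
  letI : Algebra R E := ((algebraMap (Localization.Away g.1) E).comp (algebraMap R _)).toAlgebra
  haveI : IsScalarTower R (Localization.Away g.1) E := IsScalarTower.of_algebraMap_eq' rfl
  refine @Dev4.finitePresentation_of_faithfullyFlat _ E _ _ _ _ _ _ _ ?_
  rcases subsingleton_or_nontrivial E with hE | hE
  · haveI : Subsingleton (E ⊗[Localization.Away g.1] (Localization.Away g.1 ⊗[R] A)) :=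
      Module.subsingleton E _
    infer_instance
  obtain ⟨M, _, ⟨e⟩⟩ := hd
  obtain ⟨M', _, ⟨e₂⟩⟩ := MultTypeLib.isDiag_of_tensor_tensor (A := A) (Localization.Away g.1) E
    ⟨M, inferInstance, ⟨e⟩⟩
  let K : Ideal E := J.map (algebraMap R E)
  letI : Algebra (R ⧸ J) (E ⧸ K) := (Ideal.quotientMap K (algebraMap R E) Ideal.le_comap_map).toAlgebra
  haveI : IsScalarTower R (R ⧸ J) (E ⧸ K) := IsScalarTower.of_algebraMap_eq fun _ => rfl
  haveI : Nontrivial (E ⧸ K) := by
    rw [Ideal.Quotient.nontrivial_iff]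
    intro hK
    have hle : K ≤ nilradical E :=
      Ideal.map_le_iff_le_comap.2 fun a ha => mem_nilradical.2 ((hJ a ha).map (algebraMap R E))
    exact not_isNilpotent_one (mem_nilradical.1 (hle (hK ▸ Submodule.mem_top)))
  obtain ⟨e', -⟩ := MultTypeLib.exists_diag_map (Ideal.Quotient.mkₐ R K : E →ₐ[R] E ⧸ K) e₂
  haveI : Module.Finite (E ⧸ K) (MonoidAlgebra (E ⧸ K) M') :=
    Module.Finite.equiv ((MultTypeLib.cancelBC R A (R ⧸ J) (E ⧸ K)).trans e').toLinearEquiv
  haveI : Finite M' := Module.Finite.finite_basis (MonoidAlgebra.basis M' (E ⧸ K))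
  haveI : Module.Finite E (MonoidAlgebra E M') := Module.Finite.of_basis (MonoidAlgebra.basis M' E)
  haveI : Module.Free E (MonoidAlgebra E M') := Module.Free.of_basis (MonoidAlgebra.basis M' E)
  haveI : Module.FinitePresentation E (MonoidAlgebra E M') := Module.finitePresentation_of_projective E _
  exact Module.FinitePresentation.of_equiv
    ((MultTypeLib.cancelBC R A (Localization.Away g.1) E).trans e₂).symm.toLinearEquiv

/-- A flat affine scheme which is finite étale after reduction modulo a nil ideal, and finitely presented, is finite étale. -/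
theorem finite_etale_sp (J : Ideal R) (hJ : ∀ x ∈ J, IsNilpotent x) {A : Type u} [CommRing A]
    [HopfAlgebra R A] (hMT : SGA3b.IsMultType R A) {X : Over (Spec (CommRingCat.of (R ⧸ J)))} [IsFinite X.hom]
    [Etale X.hom] (e : Red.bc (Spec.map (CommRingCat.ofHom (Ideal.Quotient.mk J))) (CoactBr.sp R A) ≅ X) :
    IsFinite (CoactBr.sp R A).hom ∧ Etale (CoactBr.sp R A).hom ∧ Algebra.FiniteType R A := by
  let i := Spec.map (CommRingCat.ofHom (Ideal.Quotient.mk J))
  haveI : IsClosedImmersion i := IsClosedImmersion.spec_of_surjective _ Ideal.Quotient.mk_surjective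
  haveI : Surjective i := surjective_specMap_mk J hJ
  let H := CoactBr.sp R A
  haveI : Module.Finite (R ⧸ J) ((R ⧸ J) ⊗[R] A) := by
    let e' := (MTRigid29.bcSpIso J A).symm ≪≫ e
    haveI : IsIso e'.hom.left := inferInstanceAs (IsIso ((Over.forget _).map e'.hom))
    have h : IsFinite (CoactBr.sp (R ⧸ J) ((R ⧸ J) ⊗[R] A)).hom := by
      rw [← Over.w e'.hom]
      infer_instance
    exact RingHom.finite_algebraMap.1 ((IsFinite.SpecMap_iff _).1 h)
  haveI : Module.FinitePresentation R A := finitePresentation_of_isMultType J hJ hMT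
  haveI : Module.Flat R A := MTRigid29.flat_of_isMultType hMT
  haveI hHfin : IsFinite H.hom := (IsFinite.SpecMap_iff _).2 (RingHom.finite_algebraMap.2 inferInstance)
  haveI hHfl : Flat H.hom := HasRingHomProperty.Spec_iff.2 (RingHom.flat_algebraMap_iff.2 inferInstance)
  haveI hHfp : LocallyOfFinitePresentation H.hom :=
    HasRingHomProperty.Spec_iff.2 (RingHom.finitePresentation_algebraMap.2 inferInstance)
  haveI : Etale (pullback.snd H.hom i) := by
    haveI : IsIso e.hom.left := inferInstanceAs (IsIso ((Over.forget _).map e.hom))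
    show Etale (Red.bc i H).hom
    rw [← Over.w e.hom]
    exact MorphismProperty.comp_mem _ _ _ inferInstance ‹_›
  refine ⟨hHfin, ?_, inferInstance⟩
  refine (Groth.Agent.S2763.result (𝟙 _) H.hom H.hom (Category.comp_id _)).2 fun s => ?_
  let φ := (Spec (CommRingCat.of R)).fromSpecResidueField s
  haveI : IsIso (pullback.fst φ i) := isIso_of_isClosedImmersion_of_surjective _
  let k : Scheme.Hom.fiber (𝟙 (Spec (CommRingCat.of R))) s ⟶ Spec (CommRingCat.of (R ⧸ J)) :=
    pullback.snd _ φ ≫ inv (pullback.fst φ i) ≫ pullback.snd φ i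
  have hk : k ≫ i = Scheme.Hom.fiberι (𝟙 (Spec (CommRingCat.of R))) s := by
    show (pullback.snd _ φ ≫ inv (pullback.fst φ i) ≫ pullback.snd φ i) ≫ i = pullback.fst _ φ
    rw [Category.assoc, Category.assoc, ← pullback.condition, IsIso.inv_hom_id_assoc, ← pullback.condition,
      Category.comp_id]
  rw [← hk, ← MorphismProperty.cancel_left_of_respectsIso @Etale
    (pullbackLeftPullbackSndIso H.hom i k).hom, pullbackLeftPullbackSndIso_hom_snd]
  exact MorphismProperty.pullback_snd _ _ ‹Etale (pullback.snd H.hom i)›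

set_option maxHeartbeats 1000000 in
/-- A finite étale group of multiplicative type over the reduction lifts. -/
theorem exists_group_lift (J : Ideal R) (hJ : ∀ x ∈ J, IsNilpotent x)
    (H₀ : Over (Spec (CommRingCat.of (R ⧸ J)))) [GrpObj H₀] [Smooth H₀.hom] [IsFinite H₀.hom]
    (hm₀ : SGA3x.IsMultTypeFT H₀) :
    ∃ (H : Over (Spec (CommRingCat.of R))) (_ : GrpObj H), IsFinite H.hom ∧ Etale H.hom ∧ SGA3x.IsMultTypeFT H ∧
      ∃ e : Red.bc (Spec.map (CommRingCat.ofHom (Ideal.Quotient.mk J))) H ≅ H₀, IsMonHom e.hom := by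
  obtain ⟨A₀, _, _, -, -, hsplit, ⟨eG⟩⟩ := MTRigid29.exists_model_split (MTRigid29.isMT_of_ft hm₀)
  let e₀ : CoactBr.sp (R ⧸ J) A₀ ≅ H₀ :=
    ⟨eG.hom.hom.hom, eG.inv.hom.hom, by rw [← Mon.comp_hom', ← Grp.comp', eG.hom_inv_id]; rfl,
      by rw [← Mon.comp_hom', ← Grp.comp', eG.inv_hom_id]; rfl⟩
  haveI : IsMonHom e₀.hom := eG.hom.hom.isMonHom_hom
  haveI : IsIso e₀.hom.left := inferInstanceAs (IsIso ((Over.forget _).map e₀.hom))
  haveI hfin₀ : IsFinite (CoactBr.sp (R ⧸ J) A₀).hom := by rw [← Over.w e₀.hom]; infer_instance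
  haveI het₀ : Etale (CoactBr.sp (R ⧸ J) A₀).hom := by
    haveI := etale_of_finite_smooth H₀.hom
    rw [← Over.w e₀.hom]
    exact MorphismProperty.comp_mem _ _ _ inferInstance ‹_›
  haveI : Module.Finite (R ⧸ J) A₀ := RingHom.finite_algebraMap.1 ((IsFinite.SpecMap_iff _).1 hfin₀)
  obtain ⟨A, _, _, hqi, ⟨E⟩⟩ := Groth.Agent.S2979.result R J hJ A₀
    (Groth.Agent.S2973.result (R ⧸ J) A₀ inferInstance (MTRigid29.isMultType_of_isSplit hsplit))
  have hMT := MultTypeLib.isMultType_of_isQuasiIsotrivial hqi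
  let i := Spec.map (CommRingCat.ofHom (Ideal.Quotient.mk J))
  let H := CoactBr.sp R A
  let E' : MTRigid29.AA A J →ₐc[R ⧸ J] A₀ := E.toBialgHom
  let p₀ : CoactBr.sp (R ⧸ J) ((R ⧸ J) ⊗[R] A) ≅ CoactBr.sp (R ⧸ J) A₀ :=
    ⟨CoactBr.pt (E.symm.toBialgHom : A₀ →ₐ[R ⧸ J] (R ⧸ J) ⊗[R] A), CoactBr.pt (E' : MTRigid29.AA A J →ₐ[R ⧸ J] A₀),
      by
        rw [← CoactBr.pt_comp, ← CoactBr.pt_id]
        exact congrArg CoactBr.pt (AlgHom.ext fun a => E.symm_apply_apply a),
      by
        rw [← CoactBr.pt_comp, ← CoactBr.pt_id]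
        exact congrArg CoactBr.pt (AlgHom.ext fun a => E.apply_symm_apply a)⟩
  let e : Red.bc i H ≅ H₀ := MTRigid29.bcSpIso J A ≪≫ p₀ ≪≫ e₀
  haveI := etale_of_finite_smooth H₀.hom
  obtain ⟨hfin, het, hft⟩ := finite_etale_sp J hJ hMT e
  refine ⟨H, inferInstance, hfin, het, MTRigid29.IsotrivialNormal.isMultTypeFT_sp hMT, e, ?_⟩
  haveI : IsMonHom (MTRigid29.bcSpIso J A).hom := isMonHom_bcSpIso J A
  haveI : IsMonHom p₀.hom :=
    ((hopfSpec (CommRingCat.of (R ⧸ J))).map (CommHopfAlgCat.ofHom (R := R ⧸ J) E.symm.toBialgHom).op).hom.isMonHom_hom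
  show IsMonHom ((MTRigid29.bcSpIso J A).hom ≫ p₀.hom ≫ e₀.hom)
  infer_instance


/-- A group of multiplicative type with finite étale reduction is finite étale. -/
theorem finite_etale_of_reduction (J : Ideal R) (hJ : ∀ x ∈ J, IsNilpotent x)
    {H : Over (Spec (CommRingCat.of R))} [GrpObj H] (hH : SGA3x.IsMultTypeFT H)
    {X : Over (Spec (CommRingCat.of (R ⧸ J)))} [IsFinite X.hom] [Etale X.hom]
    (e : Red.bc (Spec.map (CommRingCat.ofHom (Ideal.Quotient.mk J))) H ≅ X) :
    IsFinite H.hom ∧ Etale H.hom := by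
  obtain ⟨A, _, _, -, -, hsplit, ⟨eG⟩⟩ := MTRigid29.exists_model_split (MTRigid29.isMT_of_ft hH)
  let e₁ : CoactBr.sp R A ≅ H := (Grp.forget _).mapIso eG
  obtain ⟨h1, h2, -⟩ := finite_etale_sp J hJ (MTRigid29.isMultType_of_isSplit hsplit)
    ((Over.pullback (Spec.map (CommRingCat.ofHom (Ideal.Quotient.mk J)))).mapIso e₁ ≪≫ e)
  haveI : IsIso e₁.inv.left := inferInstanceAs (IsIso ((Over.forget _).map e₁.inv))
  rw [← Over.w e₁.inv]
  exact ⟨inferInstance, inferInstance⟩

end Groth.Agent.CentLift20
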