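import Groth.Agent.Lib.CentLift20.Etale
import Groth.Agent.Lib.MulEtale20.Basic
import Groth.Agent.S16764
import Groth.Agent.S2763
import Groth.Prelude.Def_SGA3x

/-!
# The étale locus of the power map
-/

set_option autoImplicit false
set_option linter.style.haveILetI false
set_option linter.unusedSectionVars false
set_option backward.isDefEq.respectTransparency.types false
universe u

open CategoryTheory Limits MonoidalCategory CartesianMonoidalCategory MonObj AlgebraicGeometry

noncomputable section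

namespace Groth.Agent.CentLift20

variable {S : Scheme.{u}} (G : Over S) [GrpObj G] (n : ℕ)

/-- The power map. -/
abbrev pw : G ⟶ G := (𝟙 G) ^ n

theorem comp_pw {X : Over S} (g : X ⟶ G) : g ≫ pw G n = g ^ n := by
  rw [MonObj.comp_pow, Category.comp_id]

/-- The étale locus of the power map. -/
def V : G.left.Opens := ⨆ U : {U : G.left.Opens // Etale (U.ι ≫ (pw G n).left)}, U.1

theorem le_V {U : G.left.Opens} (h : Etale (U.ι ≫ (pw G n).left)) : U ≤ V G n :=
  le_iSup (fun U : {U : G.left.Opens // Etale (U.ι ≫ (pw G n).left)} => U.1) ⟨U, h⟩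

instance etale_V : Etale ((V G n).ι ≫ (pw G n).left) := by
  refine IsZariskiLocalAtSource.of_iSup_eq_top (P := @Etale)
    (fun U : {U : G.left.Opens // Etale (U.ι ≫ (pw G n).left)} => (V G n).ι ⁻¹ᵁ U.1) ?_ fun U => ?_
  · rw [← top_le_iff]
    intro x _
    obtain ⟨U, hU⟩ := TopologicalSpace.Opens.mem_iSup.1 x.2
    exact TopologicalSpace.Opens.mem_iSup.2 ⟨U, hU⟩
  · have := U.2
    rw [← Category.assoc, ← morphismRestrict_ι, Category.assoc]
    infer_instance

/-- The kernel of the power map in its étale locus. -/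
def P : Over S :=
  Over.mk (pullback.snd ((V G n).ι ≫ (pw G n).left) η[G].left ≫ (𝟙_ (Over S)).hom)

instance etale_P : Etale (P G n).hom := by
  haveI : Etale (pullback.snd ((V G n).ι ≫ (pw G n).left) η[G].left) := inferInstance
  haveI : Etale (𝟙_ (Over S)).hom := inferInstanceAs (Etale (𝟙 S))
  exact MorphismProperty.comp_mem @Etale _ _ ‹_› ‹_›

/-- The inclusion of the kernel. -/
def π : P G n ⟶ G :=
  Over.homMk (pullback.fst ((V G n).ι ≫ (pw G n).left) η[G].left ≫ (V G n).ι) (by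
    show (_ ≫ _) ≫ G.hom = pullback.snd _ _ ≫ (𝟙_ (Over S)).hom
    rw [Category.assoc, ← Over.w η[G], ← pullback.condition_assoc, Category.assoc, Over.w (pw G n)])

theorem π_pow : π G n ^ n = 1 := by
  rw [← comp_pw]
  refine Over.OverMorphism.ext ?_
  show (pullback.fst _ _ ≫ (V G n).ι) ≫ (pw G n).left = (pullback.snd _ _ ≫ 𝟙 S) ≫ η[G].left
  rw [Category.assoc, pullback.condition, Category.comp_id]

theorem range_comp_π {X : Over S} (x : X ⟶ P G n) :
    Set.range (x ≫ π G n).left ⊆ (V G n : Set G.left) := by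
  rintro _ ⟨z, rfl⟩
  exact ((pullback.fst ((V G n).ι ≫ (pw G n).left) η[G].left) (x.left z)).2

theorem comp_π_pow {X : Over S} (x : X ⟶ P G n) : (x ≫ π G n) ^ n = 1 := by
  rw [← MonObj.comp_pow, π_pow, MonObj.comp_one]

theorem exists_factor {X : Over S} (g : X ⟶ G) (hr : Set.range g.left ⊆ (V G n : Set G.left)) (h : g ^ n = 1) :
    ∃ g' : X ⟶ P G n, g' ≫ π G n = g := by
  let l := IsOpenImmersion.lift (V G n).ι g.left (by rwa [Scheme.Opens.range_ι])
  have hl : l ≫ (V G n).ι = g.left := IsOpenImmersion.lift_fac _ _ _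
  have hc : l ≫ (V G n).ι ≫ (pw G n).left = X.hom ≫ η[G].left := by
    rw [← Category.assoc, hl, ← Over.comp_left, comp_pw, h]
    rfl
  refine ⟨Over.homMk (pullback.lift l X.hom hc) ?_, Over.OverMorphism.ext ?_⟩
  · show pullback.lift l X.hom hc ≫ pullback.snd _ _ ≫ (𝟙_ (Over S)).hom = X.hom
    rw [pullback.lift_snd_assoc]
    exact Category.comp_id _
  · show pullback.lift l X.hom hc ≫ pullback.fst _ _ ≫ (V G n).ι = g.left
    rw [pullback.lift_fst_assoc, hl]

variable {S₀ : Scheme.{u}} (i : S₀ ⟶ S) [IsClosedImmersion i] [Surjective i]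

/-- `n`-torsion points in the étale locus which agree on the closed subscheme are equal. -/
theorem kill_ext {X : Over S} (a b : X ⟶ G) (ha : a ^ n = 1) (hb : b ^ n = 1)
    (hr : Set.range (fst X (Over.mk i) ≫ a).left ⊆ (V G n : Set G.left))
    (h : fst X (Over.mk i) ≫ a = fst X (Over.mk i) ≫ b) : a = b := by
  have hsurj : Function.Surjective (fst X (Over.mk i)).left := (surjective_fst i X).surj
  have hrange : ∀ c : X ⟶ G, Set.range (fst X (Over.mk i) ≫ c).left ⊆ (V G n : Set G.left) →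
      Set.range c.left ⊆ (V G n : Set G.left) := by
    rintro c hc _ ⟨x, rfl⟩
    obtain ⟨z, rfl⟩ := hsurj x
    exact hc ⟨z, rfl⟩
  obtain ⟨a', rfl⟩ := exists_factor G n a (hrange a hr) ha
  obtain ⟨b', rfl⟩ := exists_factor G n b (hrange b (h ▸ hr)) hb
  haveI : Mono (π G n) := by
    haveI : Mono η[G].left := by
      have hw : η[G].left ≫ G.hom = (𝟙_ (Over S)).hom := Over.w η[G]
      haveI : Mono (𝟙_ (Over S)).hom := inferInstanceAs (Mono (𝟙 S))
      exact mono_of_mono_fac hw
    haveI : Mono (π G n).left := by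
      show Mono (pullback.fst _ _ ≫ (V G n).ι)
      infer_instance
    exact Over.mono_of_mono_left _
  have := etale_ext i a' b' ((cancel_mono (π G n)).1 (by simpa only [Category.assoc] using h))
  rw [this]

theorem kill_lift {X : Over S} (f₀ : X ⊗ Over.mk i ⟶ G)
    (hr : Set.range f₀.left ⊆ (V G n : Set G.left)) (h : f₀ ^ n = 1) :
    ∃ f : X ⟶ G, f ^ n = 1 ∧ fst X (Over.mk i) ≫ f = f₀ := by
  obtain ⟨g, rfl⟩ := exists_factor G n f₀ hr h
  obtain ⟨f, rfl⟩ := etale_lift i g
  exact ⟨f ≫ π G n, comp_π_pow G n f, (Category.assoc _ _ _).symm⟩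

variable [Flat G.hom] [LocallyOfFinitePresentation G.hom]

/-- The power map is étale at the unit over the points where `n` is invertible. -/
theorem unit_mem_V (t : (𝟙_ (Over S)).left) (hn : (n : S.residueField (G.hom (η[G].left t))) ≠ 0) :
    η[G].left t ∈ V G n := by
  set x := η[G].left t
  let s := G.hom x
  let F := Over.pullback (S.fromSpecResidueField s)
  let Gs := Red.bc (S.fromSpecResidueField s) G
  haveI : LocallyOfFiniteType Gs.hom :=
    inferInstanceAs (LocallyOfFiniteType (pullback.snd G.hom (S.fromSpecResidueField s)))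
  obtain ⟨V', hV', hV''⟩ := MulEtale20.exists_etale_pow (K := S.residueField s) Gs n hn
  let z₀ : Spec (CommRingCat.of (S.residueField s)) := IsLocalRing.closedPoint (S.residueField s)
  have hx' : (G.hom.fiberι s) (η[Gs].left z₀) = x := by
    have hts : (t : S) = s := by
      show t = (η[G].left ≫ G.hom) t
      rw [Over.w η[G]]
      rfl
    obtain ⟨z, ht, -⟩ := Scheme.Pullback.exists_preimage_pullback (f := (𝟙_ (Over S)).hom)
      (g := S.fromSpecResidueField s) t z₀ (by
        rw [Scheme.fromSpecResidueField_apply]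
        exact hts)
    have h1 : F.map (1 : 𝟙_ (Over S) ⟶ G) = (1 : F.obj (𝟙_ (Over S)) ⟶ Gs) :=
      map_one (F.homMonoidHom (X := 𝟙_ (Over S)) (M := G))
    have h2 : (F.map (1 : 𝟙_ (Over S) ⟶ G)).left ≫ pullback.fst _ _ = pullback.fst _ _ ≫ η[G].left := by
      refine (pullback.lift_fst _ _ _).trans (congrArg (_ ≫ ·) ?_)
      rw [Hom.one_def, toUnit_unit, Category.id_comp]
    rw [h1, Hom.one_def, Over.comp_left, Category.assoc] at h2
    have h3 := congrArg (fun m : (F.obj (𝟙_ (Over S))).left ⟶ G.left => m z) h2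
    simp only [Scheme.Hom.comp_apply] at h3
    rw [ht] at h3
    refine Eq.trans ?_ h3
    exact congrArg (fun a => (G.hom.fiberι s) (η[Gs].left a)) (Subsingleton.elim (α := PrimeSpectrum (S.residueField s)) _ _)
  obtain ⟨U, hxU, hU⟩ := (Groth.Agent.S16764.result G.hom G.hom (pw G n).left (Over.w (pw G n)) x
    (Flat.stalkMap G.hom x) (η[Gs].left z₀) hx').2 ⟨V', hV', by
      have e : CohIII.fiberMapOver (pw G n).left G.hom G.hom (Over.w (pw G n)) s = ((𝟙 Gs : Gs ⟶ Gs) ^ n).left := by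
        have h2 : F.map (pw G n) = (𝟙 Gs : Gs ⟶ Gs) ^ n :=
          (map_pow (F.homMonoidHom (X := G) (M := G)) (𝟙 G) n).trans (congrArg (· ^ n) (F.map_id G))
        rw [← h2]
        apply pullback.hom_ext
        · exact (pullback.lift_fst _ _ _).trans (pullback.lift_fst _ _ _).symm
        · exact (pullback.lift_snd _ _ _).trans ((Category.comp_id _).trans (pullback.lift_snd _ _ _).symm)
      exact (congrArg (fun m => Etale (V'.ι ≫ m)) e).mpr hV''⟩
  exact le_V G n hU hxU

/-- The power map is étale along central `n`-torsion points over the closed subscheme. -/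
theorem range_subset_V (H : Over S) [Etale H.hom] (U₀ : H ⊗ Over.mk i ⟶ G) (hpow : U₀ ^ n = 1)
    (hc : ∀ (X : Over S) (y : X ⟶ H ⊗ Over.mk i) (g : X ⟶ G), Commute (y ≫ U₀) g)
    (hu : ∀ y : (H ⊗ Over.mk i).left, η[G].left ((H ⊗ Over.mk i).hom y) ∈ V G n) :
    Set.range U₀.left ⊆ (V G n : Set G.left) := by
  let Z : Over S := Over.mk i
  let Y : Over S := H ⊗ Z
  let Φ : Y ⊗ G ⟶ Y ⊗ G := Y ◁ pw G n
  let τ : Y ⊗ G ⟶ Y ⊗ G := lift (fst Y G) ((fst Y G ≫ U₀) * snd Y G)
  let τ' : Y ⊗ G ⟶ Y ⊗ G := lift (fst Y G) ((fst Y G ≫ U₀)⁻¹ * snd Y G)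
  have hinv : τ' ≫ τ = 𝟙 _ := by
    apply CartesianMonoidalCategory.hom_ext
    · simp [τ, τ']
    · simp [τ, τ', MonObj.comp_mul, GrpObj.comp_inv]
  have hinv' : τ ≫ τ' = 𝟙 _ := by
    apply CartesianMonoidalCategory.hom_ext
    · simp [τ, τ']
    · simp [τ, τ', MonObj.comp_mul, GrpObj.comp_inv]
  have hτΦ : τ ≫ Φ = Φ := by
    apply CartesianMonoidalCategory.hom_ext
    · simp [τ, Φ]
    · rw [Category.assoc, whiskerLeft_snd, ← Category.assoc, lift_snd, comp_pw, comp_pw,
        (hc _ (fst Y G) (snd Y G)).mul_pow, ← MonObj.comp_pow, hpow, MonObj.comp_one, _root_.one_mul]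
  have hτ'Φ : τ' ≫ Φ = Φ := by
    conv_lhs => rw [← hτΦ, ← Category.assoc, hinv, Category.id_comp]
  haveI : IsIso τ' := ⟨τ, hinv, hinv'⟩
  haveI : IsIso τ'.left := inferInstanceAs (IsIso ((Over.forget S).map τ'))
  let W : (Y ⊗ G).left.Opens := (snd Y G).left ⁻¹ᵁ V G n
  let W' : (Y ⊗ G).left.Opens := τ'.left ⁻¹ᵁ W
  haveI hWΦ : Etale (W.ι ≫ Φ.left) := by
    have hp := ((isPullback_morphismRestrict (snd Y G).left (V G n)).flip.paste_horiz
      (QuotField20.isPullback_whiskerLeft_left Y (pw G n)))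
    exact MorphismProperty.of_isPullback hp.flip (etale_V G n)
  haveI hW'Φ : Etale (W'.ι ≫ Φ.left) := by
    rw [← hτ'Φ, Over.comp_left, ← morphismRestrict_ι_assoc]
    infer_instance
  have hmem : ∀ y : Y.left, (lift (𝟙 Y) U₀).left y ∈ W' := by
    intro y
    show ((lift (𝟙 Y) U₀ ≫ τ') ≫ snd Y G).left y ∈ V G n
    rw [show (lift (𝟙 Y) U₀ ≫ τ') ≫ snd Y G = toUnit Y ≫ η[G] by
      simp [τ', MonObj.comp_mul, GrpObj.comp_inv, ← Hom.one_def]]
    exact hu y
  let q : Y ⊗ G ⟶ Z ⊗ G := snd H Z ▷ G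
  let Ψ : Z ⊗ G ⟶ Z ⊗ G := Z ◁ pw G n
  have hqΨ : Φ ≫ q = q ≫ Ψ := whisker_exchange (snd H Z) (pw G n)
  haveI : Etale (snd H Z).left := inferInstanceAs (Etale (pullback.snd H.hom i))
  haveI : Etale q.left := by
    have h1 : IsPullback (q.left ≫ (snd Z G).left) (fst Y G).left G.hom ((snd H Z).left ≫ Z.hom) := by
      rw [← Over.comp_left, whiskerRight_snd, Over.w]
      exact (IsPullback.of_hasPullback Y.hom G.hom).flip
    have h2 := IsPullback.of_right h1 (congrArg CommaMorphism.left (whiskerRight_fst (snd H Z) G))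
      (IsPullback.of_hasPullback Z.hom G.hom).flip
    exact MorphismProperty.of_isPullback h2.flip ‹Etale (snd H Z).left›
  let Q : (Z ⊗ G).left.Opens := ⟨q.left '' (W' : Set (Y ⊗ G).left), q.left.isOpenMap _ W'.2⟩
  have hle : W' ≤ q.left ⁻¹ᵁ Q := fun w hw => ⟨w, hw, rfl⟩
  let l : (W' : Scheme.{u}) ⟶ Q := (Y ⊗ G).left.homOfLE hle ≫ q.left ∣_ Q
  have hl : l ≫ Q.ι = W'.ι ≫ q.left := by
    rw [Category.assoc, morphismRestrict_ι, Scheme.homOfLE_ι_assoc]
  haveI : Etale l := inferInstance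
  haveI : Surjective l := ⟨fun z => by
    obtain ⟨w, hw, hz⟩ := z.2
    refine ⟨⟨w, hw⟩, Q.ι.isOpenEmbedding.injective ?_⟩
    rw [← Scheme.Hom.comp_apply, hl]
    exact hz⟩
  haveI hQΨ : Etale (Q.ι ≫ Ψ.left) := by
    refine AlgSpDescent.descendsEtaleSource_etale l (Q.ι ≫ Ψ.left) inferInstance inferInstance ?_
    rw [← Category.assoc, hl, Category.assoc, ← Over.comp_left, ← hqΨ, Over.comp_left, ← Category.assoc]
    infer_instance
  let σ : (Z ⊗ G).left ⟶ G.left := (snd Z G).left
  haveI : IsClosedImmersion σ := inferInstanceAs (IsClosedImmersion (pullback.snd i G.hom))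
  haveI : Surjective σ := inferInstanceAs (Surjective (pullback.snd i G.hom))
  have hσ : Function.Injective σ := σ.isClosedEmbedding.injective
  have hopen : IsOpen (σ '' (Q : Set (Z ⊗ G).left)) := by
    have : σ '' (Q : Set (Z ⊗ G).left) = (σ '' (Q : Set (Z ⊗ G).left)ᶜ)ᶜ := by
      rw [Set.image_compl_eq ⟨hσ, σ.surjective⟩, compl_compl]
    rw [this]
    exact (σ.isClosedEmbedding.isClosedMap _ Q.2.isClosed_compl).isOpen_compl
  let V' : G.left.Opens := ⟨σ '' (Q : Set (Z ⊗ G).left), hopen⟩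
  have hpre : σ ⁻¹ᵁ V' = Q := TopologicalSpace.Opens.ext (Set.preimage_image_eq _ hσ)
  have hV' : Etale (V'.ι ≫ (pw G n).left) := by
    have hp := (isPullback_morphismRestrict σ V').flip.paste_horiz
      (QuotField20.isPullback_whiskerLeft_left Z (pw G n))
    have hEt : Etale ((σ ⁻¹ᵁ V').ι ≫ Ψ.left) := by rw [hpre]; exact hQΨ
    haveI h0 : Etale (pullback.snd (V'.ι ≫ (pw G n).left) σ) := by
      rw [← MorphismProperty.cancel_left_of_respectsIso @Etale hp.flip.isoPullback.hom, hp.flip.isoPullback_hom_snd]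
      exact hEt
    haveI : Flat (V'.ι ≫ G.hom) := inferInstance
    refine (Groth.Agent.S2763.result G.hom (V'.ι ≫ G.hom) (V'.ι ≫ (pw G n).left)
      (by rw [Category.assoc, Over.w])).2 fun s => ?_
    let φ : Spec (S.residueField s) ⟶ S := S.fromSpecResidueField s
    haveI : IsReduced (Spec (S.residueField s)) := inferInstance
    haveI : IsIso (pullback.fst φ i) := isIso_of_isClosedImmersion_of_surjective _
    have hw : (G.hom.fiberToSpecResidueField s ≫ inv (pullback.fst φ i) ≫ pullback.snd φ i) ≫ i =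
        G.hom.fiberι s ≫ G.hom := by
      rw [Category.assoc, Category.assoc, ← pullback.condition, IsIso.inv_hom_id_assoc]
      exact pullback.condition.symm
    let k : G.hom.fiber s ⟶ (Z ⊗ G).left := pullback.lift _ _ hw
    have hk : k ≫ σ = G.hom.fiberι s := pullback.lift_snd _ _ _
    rw [← hk, ← MorphismProperty.cancel_left_of_respectsIso @Etale
      (pullbackLeftPullbackSndIso (V'.ι ≫ (pw G n).left) σ k).hom, pullbackLeftPullbackSndIso_hom_snd]
    exact MorphismProperty.pullback_snd _ _ h0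
  rintro _ ⟨y, rfl⟩
  refine le_V G n hV' ⟨q.left ((lift (𝟙 Y) U₀).left y), ⟨_, hmem y, rfl⟩, ?_⟩
  show ((lift (𝟙 Y) U₀ ≫ q) ≫ snd Z G).left y = U₀.left y
  simp [q]

end Groth.Agent.CentLift20
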