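import Groth.Agent.Lib.DiagLift19.Basic
import Groth.Agent.Lib.CentLift20.BcSp
import Groth.Agent.Lib.MTRigid29.SpMultType
import Groth.Agent.Lib.MTRigid29.SubgrpLift

/-!
# Homomorphisms from a group of multiplicative type into a smooth group lift along nilpotent thickenings
-/

set_option autoImplicit false
set_option linter.style.haveILetI false
set_option backward.isDefEq.respectTransparency.types false
set_option maxSynthPendingDepth 3
universe u

open CategoryTheory Limits MonoidalCategory CartesianMonoidalCategory MonObj AlgebraicGeometry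
open scoped TensorProduct

noncomputable section

namespace Groth.Agent.CentLift20

open MTRigid29 DiagGL

variable {R : Type u} [CommRing R] (J : Ideal R)

set_option maxHeartbeats 1000000 in
theorem exists_lift_smooth_sp (hJ : IsNilpotent J) {A : Type u} [CommRing A] [HopfAlgebra R A]
    (hA : SGA3b.IsMultType R A) (X : Over (Spec (CommRingCat.of R))) [GrpObj X] [Smooth X.hom]
    (f₀ : Red.bc (Spec.map (CommRingCat.ofHom (Ideal.Quotient.mk J))) (CoactBr.sp R A) ⟶
      Red.bc (Spec.map (CommRingCat.ofHom (Ideal.Quotient.mk J))) X) [IsMonHom f₀] :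
    ∃ f : CoactBr.sp R A ⟶ X, IsMonHom f ∧
      (Over.pullback (Spec.map (CommRingCat.ofHom (Ideal.Quotient.mk J)))).map f = f₀ := by
  obtain ⟨j, hj⟩ := MultTypeLib.exists_isInt_of_isMultType hA
  haveI : IsMonHom (bcSpIso J A).hom := CentLift20.isMonHom_bcSpIso J A
  let p₀ := bcSpIso J A
  haveI : IsMonHom p₀.inv := inferInstance
  let idA : AA A J →ₐc[R ⧸ J] AA A J := BialgHom.id _ _
  let x : Pts X (AA A J) :=
    theta J f₀ _ (CoactBr.pt (idA : AA A J →ₐ[R ⧸ J] _) ≫ p₀.inv)
  obtain ⟨w, hw, hwx⟩ := exists_monHom_lift_smooth hj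
    (Iso.refl (Grp.mk (CoactBr.sp R A))) (inferInstance : Smooth X.hom) hJ x
    (isHom_theta J f₀ idA p₀.inv)
  refine ⟨w, hw, ?_⟩
  let π : A →+* AA A J := (Algebra.TensorProduct.includeRight : A →ₐ[R] AA A J)
  have hz : CoactBr.pt (idA : AA A J →ₐ[R ⧸ J] _) ≫ p₀.inv = p₀.inv := by
    rw [show (idA : AA A J →ₐ[R ⧸ J] _) = AlgHom.id _ _ from rfl, CoactBr.pt_id,
      Category.id_comp]
  have hleft : Spec.map (CommRingCat.ofHom π) ≫ w.left =
      p₀.inv.left ≫ f₀.left ≫ pullback.fst X.hom (Spec.map (CommRingCat.ofHom (Ideal.Quotient.mk J))) := by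
    rw [← theta_left]
    refine Eq.trans ?_ (Category.id_comp _)
    refine Eq.trans ?_ ((congrArg CommaMorphism.left hwx).trans ?_)
    · show Spec.map (CommRingCat.ofHom π) ≫ w.left = ((CoactBr.pt (gen J)).left ≫ 𝟙 _) ≫ w.left
      rw [Category.comp_id]
      rfl
    · show 𝟙 _ ≫ (fl _ X ((CoactBr.pt _ ≫ p₀.inv) ≫ f₀)).left = _
      rw [hz]
      rfl
  refine Over.OverMorphism.ext (pullback.hom_ext ?_ ?_)
  · refine Eq.trans ?_ ((congrArg (fun m => CommaMorphism.left m ≫ f₀.left ≫
      pullback.fst X.hom (Spec.map (CommRingCat.ofHom (Ideal.Quotient.mk J)))) p₀.hom_inv_id).trans (Category.id_comp _))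
    show _ = (p₀.hom.left ≫ p₀.inv.left) ≫ f₀.left ≫ pullback.fst _ _
    refine Eq.trans ?_ (Category.assoc _ _ _).symm
    refine Eq.trans ?_ (congrArg (p₀.hom.left ≫ ·) hleft)
    refine (pullback.lift_fst _ _ _).trans ?_
    refine Eq.trans ?_ (Category.assoc _ _ _)
    exact congrArg (· ≫ w.left) (bcSpIso_fst J _).symm
  · refine Eq.trans ?_ (Over.w f₀).symm
    exact Over.w ((Over.pullback (Spec.map (CommRingCat.ofHom (Ideal.Quotient.mk J)))).map w)

/-- Homomorphisms from a group of multiplicative type into a smooth group lift. -/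
theorem exists_lift_smooth (hJ : IsNilpotent J) {H G : Over (Spec (CommRingCat.of R))} [GrpObj H] [GrpObj G]
    (hH : SGA3x.IsMultTypeFT H) [Smooth G.hom]
    (f₀ : Red.bc (Spec.map (CommRingCat.ofHom (Ideal.Quotient.mk J))) H ⟶
      Red.bc (Spec.map (CommRingCat.ofHom (Ideal.Quotient.mk J))) G) [IsMonHom f₀] :
    ∃ f : H ⟶ G, IsMonHom f ∧
      (Over.pullback (Spec.map (CommRingCat.ofHom (Ideal.Quotient.mk J)))).map f = f₀ := by
  obtain ⟨A, _, _, -, -, hsplit, ⟨eG⟩⟩ := exists_model_split (isMT_of_ft hH)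
  let e : CoactBr.sp R A ≅ H := (Grp.forget _).mapIso eG
  haveI : IsMonHom e.hom := eG.hom.hom.isMonHom_hom
  haveI : IsMonHom e.inv := eG.inv.hom.isMonHom_hom
  let F := Over.pullback (Spec.map (CommRingCat.ofHom (Ideal.Quotient.mk J)))
  obtain ⟨f, hf, hf₀⟩ := exists_lift_smooth_sp J hJ (isMultType_of_isSplit hsplit) G (F.map e.hom ≫ f₀)
  refine ⟨e.inv ≫ f, inferInstance, ?_⟩
  rw [Functor.map_comp, hf₀, ← Category.assoc, ← Functor.map_comp, e.inv_hom_id, CategoryTheory.Functor.map_id,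
    Category.id_comp]

end Groth.Agent.CentLift20
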