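import Groth.Agent.Lib.CentLift20.Limit
import Groth.Agent.Lib.CentLift20.SmoothLift
import Groth.Agent.Lib.CentLift20.Hom
import Groth.Agent.Lib.CentLift20.Torsion
import Groth.Agent.Lib.MTRigid29.BaseChange
import Groth.Agent.Lib.MTRigid29.CentralSubDesc
import Groth.Agent.Lib.TorPts21.BaseChangeTorus
import Groth.Agent.S5273

/-!
# Lifting from one thickening of the closed point to the next
-/

set_option autoImplicit false
set_option linter.style.haveILetI false
set_option linter.unusedSectionVars false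
set_option backward.isDefEq.respectTransparency.types false
universe u

open CategoryTheory Limits MonoidalCategory CartesianMonoidalCategory MonObj AlgebraicGeometry
open Groth.Agent.DiagGL

noncomputable section

namespace Groth.Agent.CentLift20

open SpreadSub19

/-- A homomorphism from a group of multiplicative type to a smooth group lifts along a nilpotent thickening. -/
theorem exists_lift_smooth_iso {R : Type u} [CommRing R] (J : Ideal R) (hJ : IsNilpotent J) {S₀ : Scheme.{u}}
    (i : S₀ ⟶ Spec (CommRingCat.of R)) (ε : S₀ ⟶ Spec (CommRingCat.of (R ⧸ J))) [IsIso ε]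
    (hε : ε ≫ Spec.map (CommRingCat.ofHom (Ideal.Quotient.mk J)) = i)
    {H G : Over (Spec (CommRingCat.of R))} [GrpObj H] [GrpObj G] (hH : SGA3x.IsMultTypeFT H) [Smooth G.hom]
    (f₀ : Red.bc i H ⟶ Red.bc i G) [IsMonHom f₀] :
    ∃ f : H ⟶ G, IsMonHom f ∧ (Over.pullback i).map f = f₀ := by
  have h : inv ε ≫ i = Spec.map (CommRingCat.ofHom (Ideal.Quotient.mk J)) := by
    rw [← hε, IsIso.inv_hom_id_assoc]
  let cH := bcComp i (inv ε) h H
  let cG := bcComp i (inv ε) h G
  haveI : IsMonHom cH.hom := bcComp_isMonHom _ _ _ _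
  haveI : IsMonHom cG.hom := bcComp_isMonHom _ _ _ _
  obtain ⟨f, hf, hf₀⟩ := exists_lift_smooth J hJ (H := H) (G := G) hH
    (cH.inv ≫ (Over.pullback (inv ε)).map f₀ ≫ cG.hom)
  refine ⟨f, hf, ?_⟩
  have h1 := bcComp_natural i (inv ε) h f
  rw [hf₀] at h1
  have h2 : (Over.pullback (inv ε)).map ((Over.pullback i).map f) = (Over.pullback (inv ε)).map f₀ := by
    rw [← cancel_mono cG.hom, h1, cH.hom_inv_id_assoc]
  refine Over.OverMorphism.ext ?_
  have h3 := congrArg (fun m => CommaMorphism.left m ≫ pullback.fst (Red.bc i G).hom (inv ε)) h2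
  simp only [map_left_fst] at h3
  exact (cancel_epi _).1 h3

variable (A : Type u) [CommRing A] [IsLocalRing A]

/-- The ideal of one thickening in the next. -/
abbrev lJ (n : ℕ) : Ideal (A ⧸ lI A (n + 1)) := (lI A n).map (Ideal.Quotient.mk (lI A (n + 1)))

theorem isNilpotent_lJ (n : ℕ) : IsNilpotent (lJ A n) := by
  refine ⟨n + 2, ?_⟩
  rw [Ideal.zero_eq_bot, eq_bot_iff, ← Ideal.map_pow, Ideal.map_le_iff_le_comap]
  intro x hx
  rw [Ideal.mem_comap, Submodule.mem_bot, Ideal.Quotient.eq_zero_iff_mem]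
  rw [lI_eq, ← pow_mul] at hx
  rw [lI_eq]
  exact Ideal.pow_le_pow_right (Nat.le_mul_of_pos_left (n + 2) (Nat.succ_pos n)) hx

/-- The identification of the smaller thickening with the closed subscheme of the larger one. -/
abbrev lε (n : ℕ) : Spec (CommRingCat.of (A ⧸ lI A n)) ⟶ Spec (CommRingCat.of ((A ⧸ lI A (n + 1)) ⧸ lJ A n)) :=
  Spec.map (CommRingCat.ofHom (DoubleQuot.quotQuotEquivQuotOfLE (lI_succ_le A n)).toRingHom)

instance isIso_lε (n : ℕ) : IsIso (lε A n) := by
  haveI : IsIso (CommRingCat.ofHom (DoubleQuot.quotQuotEquivQuotOfLE (lI_succ_le A n)).toRingHom) :=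
    (ConcreteCategory.isIso_iff_bijective _).2 (DoubleQuot.quotQuotEquivQuotOfLE (lI_succ_le A n)).bijective
  infer_instance

theorem lε_mk (n : ℕ) : lε A n ≫ Spec.map (CommRingCat.ofHom (Ideal.Quotient.mk (lJ A n))) = ltr A n := by
  rw [← Spec.map_comp]
  congr 1
  ext x
  exact DoubleQuot.quotQuotEquivQuotOfLE_quotQuotMk x (lI_succ_le A n)

instance isClosedImmersion_ltr (n : ℕ) : IsClosedImmersion (ltr A n) :=
  IsClosedImmersion.spec_of_surjective _ (Ideal.Quotient.factor_surjective (lI_succ_le A n))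

instance surjective_ltr (n : ℕ) : Surjective (ltr A n) := by
  haveI : Surjective (Spec.map (CommRingCat.ofHom (Ideal.Quotient.mk (lJ A n)))) :=
    surjective_specMap_mk _ fun x hx => by
      obtain ⟨k, hk⟩ := isNilpotent_lJ A n
      refine ⟨k, ?_⟩
      have := Ideal.pow_mem_pow hx k
      rwa [hk, Ideal.zero_eq_bot, Submodule.mem_bot] at this
  rw [← lε_mk]
  infer_instance

variable {A} {M G : Over (Spec (CommRingCat.of A))} [GrpObj M] [GrpObj G]

/-- Smooth lifting from one thickening to the next. -/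
theorem exists_next_smooth (hM : SGA3x.IsMultTypeFT M) [Smooth G.hom] (n : ℕ)
    (w : Red.bc (li A n) M ⟶ Red.bc (li A n) G) [IsMonHom w] :
    ∃ w' : Red.bc (li A (n + 1)) M ⟶ Red.bc (li A (n + 1)) G, IsMonHom w' ∧ Compat A n w' w := by
  let eM := bcComp (li A (n + 1)) (ltr A n) (ltr_li A n) M
  let eG := bcComp (li A (n + 1)) (ltr A n) (ltr_li A n) G
  haveI : IsMonHom eM.hom := bcComp_isMonHom _ _ _ _
  haveI : IsMonHom eG.hom := bcComp_isMonHom _ _ _ _
  haveI : Smooth (Red.bc (li A (n + 1)) G).hom := MorphismProperty.pullback_snd _ _ inferInstance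
  obtain ⟨v, hv, hv₀⟩ := exists_lift_smooth_iso (lJ A n) (isNilpotent_lJ A n) (ltr A n) (lε A n) (lε_mk A n)
    (H := Red.bc (li A (n + 1)) M) (G := Red.bc (li A (n + 1)) G)
    (MTRigid29.isMultTypeFT_bc hM (li A (n + 1))) (eM.hom ≫ w ≫ eG.inv)
  refine ⟨v, hv, ?_⟩
  unfold Compat
  rw [hv₀]
  simp [eM, eG]

/-- Central morphisms of groups. -/
def Cent {S : Scheme.{u}} {M G : Over S} [GrpObj G] (w : M ⟶ G) : Prop :=
  ∀ (X : Over S) (x : X ⟶ M) (g : X ⟶ G), (x ≫ w) * g = g * (x ≫ w)

set_option maxHeartbeats 800000 in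
/-- Central lifting from one thickening to the next. -/
theorem exists_next_central [IsNoetherianRing A] (hM : SGA3x.IsMultTypeFT M) [IsFinite M.hom] [Smooth M.hom]
    [Flat G.hom] [LocallyOfFiniteType G.hom] (n : ℕ)
    (w : Red.bc (li A n) M ⟶ Red.bc (li A n) G) [IsMonHom w] (hw : Cent w) :
    ∃ w' : Red.bc (li A (n + 1)) M ⟶ Red.bc (li A (n + 1)) G, IsMonHom w' ∧ Cent w' ∧ Compat A n w' w ∧
      ∀ w'' : Red.bc (li A (n + 1)) M ⟶ Red.bc (li A (n + 1)) G, IsMonHom w'' → Compat A n w'' w → w'' = w' := by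
  let H := Red.bc (li A (n + 1)) M
  let G' := Red.bc (li A (n + 1)) G
  let eM := bcComp (li A (n + 1)) (ltr A n) (ltr_li A n) M
  let eG := bcComp (li A (n + 1)) (ltr A n) (ltr_li A n) G
  haveI : IsMonHom eM.hom := bcComp_isMonHom _ _ _ _
  haveI : IsMonHom eG.hom := bcComp_isMonHom _ _ _ _
  haveI : Smooth H.hom := MorphismProperty.pullback_snd _ _ inferInstance
  haveI : IsFinite H.hom := MorphismProperty.pullback_snd _ _ inferInstance
  haveI : Flat G'.hom := MorphismProperty.pullback_snd _ _ inferInstance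
  haveI : LocallyOfFiniteType G'.hom := MorphismProperty.pullback_snd _ _ inferInstance
  haveI : LocallyOfFinitePresentation G'.hom := LimH13.locallyOfFinitePresentation_of_noetherian _
  haveI := etale_of_finite_smooth H.hom
  obtain ⟨v, hv, hv₀, hvc, hvu⟩ := exists_lift_bc (ltr A n)
    (exists_killed (MTRigid29.isMultTypeFT_bc hM (li A (n + 1)))) (H := H) (G := G') (eM.hom ≫ w ≫ eG.inv)
    (fun X x g => by
      rw [← cancel_mono eG.hom, MonObj.mul_comp, MonObj.mul_comp]
      simp only [Category.assoc, eG.inv_hom_id, Category.comp_id]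
      simpa only [Category.assoc] using hw X (x ≫ eM.hom) (g ≫ eG.hom))
  refine ⟨v, hv, hvc, ?_, fun w'' h1 h2 => hvu w'' h1 ?_⟩
  · unfold Compat
    rw [hv₀]
    simp [eM, eG]
  · unfold Compat at h2
    rw [← cancel_mono eG.hom, h2]
    simp [eM, eG]

set_option maxHeartbeats 1000000 in
/-- Conjugating elements lift from one thickening to the next. -/
theorem exists_next_conj (hM : SGA3x.IsMultTypeFT M) [Smooth G.hom] (u u' : M ⟶ G) [IsMonHom u] [IsMonHom u']
    (n : ℕ) (g : Over.mk (li A n) ⟶ G)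
    (hg : ∀ (X : Over (Spec (CommRingCat.of A))) (p : X ⟶ Over.mk (li A n)) (x : X ⟶ M),
      (x ≫ u') * (p ≫ g) = (p ≫ g) * (x ≫ u)) :
    ∃ g' : Over.mk (li A (n + 1)) ⟶ G, ltr A n ≫ g'.left = g.left ∧
      ∀ (X : Over (Spec (CommRingCat.of A))) (p : X ⟶ Over.mk (li A (n + 1))) (x : X ⟶ M),
        (x ≫ u') * (p ≫ g') = (p ≫ g') * (x ≫ u) := by
  let b := li A (n + 1)
  let q := Spec.map (CommRingCat.ofHom (Ideal.Quotient.mk (lJ A n)))
  let F := Over.pullback b
  haveI : Smooth (Red.bc b G).hom := MorphismProperty.pullback_snd _ _ inferInstance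
  have hq : inv (lε A n) ≫ ltr A n = q := by rw [← lε_mk, IsIso.inv_hom_id_assoc]
  let g₀ : Over.mk q ⟶ Red.bc b G := Over.homMk (pullback.lift (inv (lε A n) ≫ g.left) q (by
    rw [Category.assoc, Over.w g]
    show inv (lε A n) ≫ li A n = q ≫ b
    rw [← ltr_li, ← Category.assoc, hq])) (pullback.lift_snd _ _ _)
  obtain ⟨g', hg'₀, hg'⟩ := Groth.Agent.S5273.result (lJ A n) (isNilpotent_lJ A n) (Red.bc b M) (Red.bc b G)
    (MTRigid29.isMT_of_ft (MTRigid29.isMultTypeFT_bc hM b)) (MorphismProperty.pullback_snd _ _ inferInstance)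
    (F.map u) (F.map u') g₀ (fun X p h => by
      rw [eq_mul_inv_iff_mul_eq]
      apply fl_injective b G
      rw [fl_mul, fl_mul, TorPts21.fl_comp_map, TorPts21.fl_comp_map]
      let p' : (Over.map b).obj X ⟶ Over.mk (li A n) := Over.homMk (p.left ≫ inv (lε A n)) (by
        show (p.left ≫ inv (lε A n)) ≫ li A n = X.hom ≫ b
        rw [← ltr_li, Category.assoc, ← Category.assoc (inv (lε A n)), hq, ← Category.assoc]
        exact congrArg (· ≫ b) (Over.w p))
      have hp' : fl b G (p ≫ g₀) = p' ≫ g := Over.OverMorphism.ext (by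
        rw [MTRigid29.fl_left]
        show (p.left ≫ pullback.lift _ _ _) ≫ pullback.fst _ _ = (p.left ≫ inv (lε A n)) ≫ g.left
        rw [Category.assoc, pullback.lift_fst, Category.assoc])
      rw [hp']
      exact hg _ _ _)
  let gn : Over.mk b ⟶ G := Over.homMk (g'.left ≫ pullback.fst G.hom b) (by
    show (g'.left ≫ pullback.fst G.hom b) ≫ G.hom = b
    have hs : g'.left ≫ pullback.snd G.hom b = 𝟙 _ := Over.w g'
    rw [Category.assoc, pullback.condition, ← Category.assoc, hs, Category.id_comp])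
  refine ⟨gn, ?_, fun X p x => ?_⟩
  · show ltr A n ≫ g'.left ≫ pullback.fst G.hom b = g.left
    have h := congrArg (fun m => CommaMorphism.left m ≫ pullback.fst G.hom b) hg'₀
    change (q ≫ g'.left) ≫ pullback.fst G.hom b = pullback.lift _ _ _ ≫ pullback.fst G.hom b at h
    rw [pullback.lift_fst, Category.assoc] at h
    rw [← lε_mk, Category.assoc]
    exact (congrArg (lε A n ≫ ·) h).trans (IsIso.hom_inv_id_assoc _ _)
  · let X' : Over (Spec (CommRingCat.of (A ⧸ lI A (n + 1)))) := Over.mk p.left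
    let jj : (Over.map b).obj X' ⟶ X := Over.homMk (𝟙 X.left) (by
      show 𝟙 X.left ≫ X.hom = p.left ≫ b
      rw [Category.id_comp]
      exact (Over.w p).symm)
    haveI : Epi jj := ⟨fun a c w => Over.OverMorphism.ext
      ((Category.id_comp a.left).symm.trans ((congrArg CommaMorphism.left w).trans (Category.id_comp c.left)))⟩
    obtain ⟨x', hx'⟩ := fl_surjective b M (T := X') (jj ≫ x)
    have h := hg' X' x'
    rw [eq_mul_inv_iff_mul_eq] at h
    have h' := congrArg (fl b G) h
    have ht : fl b G (toUnit X' ≫ g') = jj ≫ p ≫ gn := Over.OverMorphism.ext (by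
      rw [MTRigid29.fl_left]
      show (p.left ≫ g'.left) ≫ pullback.fst G.hom b = 𝟙 X.left ≫ p.left ≫ g'.left ≫ pullback.fst G.hom b
      rw [Category.id_comp, Category.assoc])
    rw [fl_mul, fl_mul, TorPts21.fl_comp_map, TorPts21.fl_comp_map, hx', ht, Category.assoc, Category.assoc,
      ← MonObj.comp_mul, ← MonObj.comp_mul] at h'
    exact (cancel_epi jj).1 h'

end Groth.Agent.CentLift20
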