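import Groth.Agent.Lib.SpreadSub19.Basic
import Groth.Agent.Lib.AlgSpDescent.FormallyLift
import Groth.Agent.S8385
import Groth.Prelude.Def_SGA3x

/-!
# Morphisms out of a finite scheme over a complete local ring
-/

set_option autoImplicit false
set_option linter.style.haveILetI false
set_option linter.unusedSectionVars false
set_option backward.isDefEq.respectTransparency.types false
universe u

open CategoryTheory Limits MonoidalCategory CartesianMonoidalCategory MonObj AlgebraicGeometry

noncomputable section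

namespace Groth.Agent.CentLift20

open SpreadSub19

variable (A : Type u) [CommRing A] [IsLocalRing A]

/-- The ideals of the thickenings of the closed point, starting with the maximal ideal. -/
def lI : ℕ → Ideal A
  | 0 => IsLocalRing.maximalIdeal A
  | n + 1 => IsLocalRing.maximalIdeal A ^ (n + 2)

theorem lI_eq (n : ℕ) : lI A n = IsLocalRing.maximalIdeal A ^ (n + 1) := by
  cases n with
  | zero => exact (pow_one _).symm
  | succ n => rfl

theorem lI_succ_le (n : ℕ) : lI A (n + 1) ≤ lI A n := by
  rw [lI_eq, lI_eq]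
  exact Ideal.pow_le_pow_right (Nat.le_succ _)

/-- The thickenings of the closed point. -/
abbrev li (n : ℕ) : Spec (CommRingCat.of (A ⧸ lI A n)) ⟶ Spec (CommRingCat.of A) :=
  Spec.map (CommRingCat.ofHom (Ideal.Quotient.mk (lI A n)))

/-- The transition maps. -/
abbrev ltr (n : ℕ) : Spec (CommRingCat.of (A ⧸ lI A n)) ⟶ Spec (CommRingCat.of (A ⧸ lI A (n + 1))) :=
  Spec.map (CommRingCat.ofHom (Ideal.Quotient.factor (lI_succ_le A n)))

theorem ltr_li (n : ℕ) : ltr A n ≫ li A (n + 1) = li A n := by
  rw [← Spec.map_comp]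
  rfl

/-- The second is the restriction of the first. -/
def Compat {M G : Over (Spec (CommRingCat.of A))} (n : ℕ)
    (w' : Red.bc (li A (n + 1)) M ⟶ Red.bc (li A (n + 1)) G) (w : Red.bc (li A n) M ⟶ Red.bc (li A n) G) : Prop :=
  (Over.pullback (ltr A n)).map w' ≫ (bcComp (li A (n + 1)) (ltr A n) (ltr_li A n) G).hom =
    (bcComp (li A (n + 1)) (ltr A n) (ltr_li A n) M).hom ≫ w

theorem compat_map {M G : Over (Spec (CommRingCat.of A))} (n : ℕ) (f : M ⟶ G) :
    Compat A n ((Over.pullback (li A (n + 1))).map f) ((Over.pullback (li A n)).map f) :=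
  bcComp_natural _ _ _ f

theorem Compat.comp {M' M G : Over (Spec (CommRingCat.of A))} {n : ℕ} (e : M' ⟶ M)
    {w' : Red.bc (li A (n + 1)) M ⟶ Red.bc (li A (n + 1)) G} {w : Red.bc (li A n) M ⟶ Red.bc (li A n) G}
    (h : Compat A n w' w) :
    Compat A n ((Over.pullback (li A (n + 1))).map e ≫ w') ((Over.pullback (li A n)).map e ≫ w) := by
  unfold Compat at *
  rw [Functor.map_comp, Category.assoc, h, ← Category.assoc, bcComp_natural, Category.assoc]

variable [IsNoetherianRing A] [IsAdicComplete (IsLocalRing.maximalIdeal A) A]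

theorem fac_comp {B : Type u} [CommRing B] {a b c : Ideal B} (h1 : a ≤ b) (h2 : b ≤ c) (h3 : a ≤ c) :
    Spec.map (CommRingCat.ofHom (Ideal.Quotient.factor h2)) ≫ Spec.map (CommRingCat.ofHom (Ideal.Quotient.factor h1)) =
      Spec.map (CommRingCat.ofHom (Ideal.Quotient.factor h3)) := by
  rw [← Spec.map_comp]
  congr 1
  ext x
  simp

variable (B : Type u) [CommRing B] [Algebra A B] [Module.Finite A B]

/-- The standard finite scheme. -/
abbrev spB : Over (Spec (CommRingCat.of A)) := Over.mk (Spec.map (CommRingCat.ofHom (algebraMap A B)))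

theorem levels (n : ℕ) :
    ∃ p : Spec (CommRingCat.of (B ⧸ (lI A n).map (algebraMap A B))) ≅ (Red.bc (li A n) (spB A B)).left,
      p.hom ≫ pullback.fst _ _ = Spec.map (CommRingCat.ofHom (Ideal.Quotient.mk _)) ∧
      p.hom ≫ pullback.snd _ _ = Spec.map (CommRingCat.ofHom
        (Ideal.quotientMap ((lI A n).map (algebraMap A B)) (algebraMap A B) Ideal.le_comap_map)) := by
  have h := @AlgSpDescent.isPullback_quotSpec (CommRingCat.of A) (CommRingCat.of B) (lI A n)
    (CommRingCat.ofHom (algebraMap A B))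
  exact ⟨h.isoPullback, h.isoPullback_hom_fst, h.isoPullback_hom_snd⟩

theorem map_left_fst {T S : Scheme.{u}} (i : T ⟶ S) {M G : Over S} (f : M ⟶ G) :
    ((Over.pullback i).map f).left ≫ pullback.fst G.hom i = pullback.fst M.hom i ≫ f.left :=
  pullback.lift_fst _ _ _

theorem bc_ext {T S : Scheme.{u}} (i : T ⟶ S) {X : Over T} {G : Over S} (a b : X ⟶ Red.bc i G)
    (h : a.left ≫ pullback.fst G.hom i = b.left ≫ pullback.fst G.hom i) : a = b :=
  Over.OverMorphism.ext (pullback.hom_ext h ((Over.w a).trans (Over.w b).symm))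

set_option maxHeartbeats 800000 in
/-- Morphisms from a finite scheme agreeing on all thickenings of the closed fibre are equal. -/
theorem hom_ext_limit_sp {G : Over (Spec (CommRingCat.of A))} (f g : spB A B ⟶ G)
    (h : ∀ n, (Over.pullback (li A n)).map f = (Over.pullback (li A n)).map g) : f = g := by
  refine Over.OverMorphism.ext ((Groth.Agent.S8385.result A B G).1 _ _ (Over.w f) (Over.w g) fun n => ?_)
  obtain ⟨p, hp, -⟩ := levels A B n
  have h' := congrArg (fun m : Red.bc (li A n) (spB A B) ⟶ Red.bc (li A n) G => p.hom ≫ m.left ≫ pullback.fst _ _) (h n)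
  simp only [map_left_fst] at h'
  rw [← Category.assoc, ← Category.assoc, hp] at h'
  have hle : (lI A n).map (algebraMap A B) ≤ (IsLocalRing.maximalIdeal A ^ n).map (algebraMap A B) :=
    Ideal.map_mono (by rw [lI_eq]; exact Ideal.pow_le_pow_right (Nat.le_succ n))
  have hq : Spec.map (CommRingCat.ofHom (Ideal.Quotient.factor hle)) ≫
      Spec.map (CommRingCat.ofHom (Ideal.Quotient.mk ((lI A n).map (algebraMap A B)))) =
      Spec.map (CommRingCat.ofHom (Ideal.Quotient.mk ((IsLocalRing.maximalIdeal A ^ n).map (algebraMap A B)))) := by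
    rw [← Spec.map_comp]
    rfl
  rw [← hq, Category.assoc, Category.assoc, h']

set_option maxHeartbeats 800000 in
/-- Compatible morphisms on the thickenings come from a morphism. -/
theorem exists_hom_limit_sp {G : Over (Spec (CommRingCat.of A))}
    (w : ∀ n, Red.bc (li A n) (spB A B) ⟶ Red.bc (li A n) G) (hw : ∀ n, Compat A n (w (n + 1)) (w n)) :
    ∃ f : spB A B ⟶ G, ∀ n, (Over.pullback (li A n)).map f = w n := by
  choose p hp1 hp2 using fun n => levels A B n
  let v : ∀ n, Spec (CommRingCat.of (B ⧸ (lI A n).map (algebraMap A B))) ⟶ G.left := fun n =>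
    (p n).hom ≫ (w n).left ≫ pullback.fst _ _
  have hK : ∀ n, (lI A (n + 1)).map (algebraMap A B) ≤ (lI A n).map (algebraMap A B) := fun n =>
    Ideal.map_mono (lI_succ_le A n)
  have hv : ∀ n, Spec.map (CommRingCat.ofHom (Ideal.Quotient.factor (hK n))) ≫ v (n + 1) = v n := by
    intro n
    let eG := bcComp (li A (n + 1)) (ltr A n) (ltr_li A n) G
    let eM := bcComp (li A (n + 1)) (ltr A n) (ltr_li A n) (spB A B)
    have h0 : eM.hom.left ≫ (w n).left ≫ pullback.fst _ _ =
        pullback.fst _ (ltr A n) ≫ (w (n + 1)).left ≫ pullback.fst _ _ := by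
      have h := congrArg (fun m => CommaMorphism.left m ≫ pullback.fst G.hom (li A n)) (hw n)
      simp only [Over.comp_left, Category.assoc] at h
      rw [bcComp_fst] at h
      refine h.symm.trans ?_
      rw [← Category.assoc, map_left_fst, Category.assoc]
    have hinv : eM.inv.left ≫ eM.hom.left = 𝟙 _ := by rw [← Over.comp_left, eM.inv_hom_id]; rfl
    have hsn : eM.inv.left ≫ pullback.snd _ (ltr A n) = pullback.snd _ (li A n) := Over.w eM.inv
    have key : Spec.map (CommRingCat.ofHom (Ideal.Quotient.factor (hK n))) ≫ (p (n + 1)).hom =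
        (p n).hom ≫ eM.inv.left ≫ pullback.fst _ (ltr A n) := by
      refine pullback.hom_ext ?_ ?_
      · simp only [Category.assoc]
        rw [hp1, ← bcComp_fst (li A (n + 1)) (ltr A n) (ltr_li A n) (spB A B), ← Category.assoc eM.inv.left, hinv,
          Category.id_comp, hp1, ← Spec.map_comp]
        rfl
      · simp only [Category.assoc]
        have hc : pullback.fst (Red.bc (li A (n + 1)) (spB A B)).hom (ltr A n) ≫
            pullback.snd (spB A B).hom (li A (n + 1)) = pullback.snd _ (ltr A n) ≫ ltr A n := pullback.condition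
        rw [hp2, hc, ← Category.assoc eM.inv.left, hsn, ← Category.assoc, hp2, ← Spec.map_comp, ← Spec.map_comp]
        congr 1
        ext x
        rfl
    show _ ≫ (p (n + 1)).hom ≫ (w (n + 1)).left ≫ _ = (p n).hom ≫ (w n).left ≫ _
    rw [← Category.assoc, key, Category.assoc, Category.assoc, ← h0, ← Category.assoc eM.inv.left, hinv,
      Category.id_comp]
  have hvw : ∀ n, v n ≫ G.hom =
      Spec.map (CommRingCat.ofHom (Ideal.Quotient.mk _)) ≫ Spec.map (CommRingCat.ofHom (algebraMap A B)) := by
    intro n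
    show ((p n).hom ≫ (w n).left ≫ pullback.fst _ _) ≫ G.hom = _
    have h1 : (w n).left ≫ pullback.snd G.hom (li A n) = pullback.snd _ (li A n) := Over.w (w n)
    rw [Category.assoc, Category.assoc, pullback.condition, ← Category.assoc (w n).left, h1, ← pullback.condition,
      ← Category.assoc, hp1]
    rfl
  have hle : ∀ n, (lI A n).map (algebraMap A B) ≤ (IsLocalRing.maximalIdeal A ^ n).map (algebraMap A B) := fun n =>
    Ideal.map_mono (by rw [lI_eq]; exact Ideal.pow_le_pow_right (Nat.le_succ n))
  have hvdef : ∀ n, (p n).hom ≫ (w n).left ≫ pullback.fst _ _ = v n := fun n => rfl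
  clear_value v
  obtain ⟨f, hf, hfu⟩ := (Groth.Agent.S8385.result A B G).2
    (fun n => Spec.map (CommRingCat.ofHom (Ideal.Quotient.factor (hle n))) ≫ v n)
    (fun n => by
      rw [Category.assoc, hvw, ← Category.assoc, ← Spec.map_comp, ← Spec.map_comp]
      rfl)
    (fun n => by
      rw [← hv n, ← Category.assoc, ← Category.assoc, fac_comp _ _ ((hle (n + 1)).trans
        (Ideal.map_mono (Ideal.pow_le_pow_right (Nat.le_succ n)))), fac_comp])
  refine ⟨Over.homMk f hf, fun n => bc_ext _ _ _ ?_⟩
  rw [map_left_fst, ← cancel_epi (p n).hom, ← Category.assoc, hp1]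
  show _ ≫ f = (p n).hom ≫ (w n).left ≫ pullback.fst _ _
  rw [hvdef]
  have heq : (IsLocalRing.maximalIdeal A ^ (n + 1)).map (algebraMap A B) ≤ (lI A n).map (algebraMap A B) :=
    Ideal.map_mono (by rw [lI_eq])
  have hq : Spec.map (CommRingCat.ofHom (Ideal.Quotient.factor heq)) ≫
      Spec.map (CommRingCat.ofHom (Ideal.Quotient.mk ((IsLocalRing.maximalIdeal A ^ (n + 1)).map (algebraMap A B)))) =
      Spec.map (CommRingCat.ofHom (Ideal.Quotient.mk ((lI A n).map (algebraMap A B)))) := by
    rw [← Spec.map_comp]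
    rfl
  rw [← hq, Category.assoc, hfu, ← Category.assoc, fac_comp _ _ (hK n), hv]

omit B in
theorem exists_model (M : Over (Spec (CommRingCat.of A))) [IsFinite M.hom] :
    ∃ (B : Type u) (_ : CommRing B) (_ : Algebra A B) (_ : Module.Finite A B), Nonempty (spB A B ≅ M) := by
  haveI : IsAffine M.left := isAffine_of_isAffineHom M.hom
  obtain ⟨φ, hφ⟩ := Spec.map_surjective (M.left.isoSpec.inv ≫ M.hom)
  let _ : Algebra A Γ(M.left, ⊤) := φ.hom.toAlgebra
  have hfin : IsFinite (Spec.map φ) := by rw [hφ]; infer_instance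
  exact ⟨Γ(M.left, ⊤), inferInstance, φ.hom.toAlgebra, RingHom.finite_algebraMap.1 ((IsFinite.SpecMap_iff φ).1 hfin),
    ⟨Over.isoMk M.left.isoSpec.symm hφ.symm⟩⟩

/-- Morphisms from a finite scheme agreeing on all thickenings of the closed fibre are equal. -/
theorem hom_ext_limit {M G : Over (Spec (CommRingCat.of A))} [IsFinite M.hom] (f g : M ⟶ G)
    (h : ∀ n, (Over.pullback (li A n)).map f = (Over.pullback (li A n)).map g) : f = g := by
  obtain ⟨B, _, _, _, ⟨e⟩⟩ := exists_model A M
  rw [← cancel_epi e.hom]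
  exact hom_ext_limit_sp A B _ _ fun n => by rw [Functor.map_comp, Functor.map_comp, h n]

/-- Compatible morphisms on the thickenings come from a morphism. -/
theorem exists_hom_limit {M G : Over (Spec (CommRingCat.of A))} [IsFinite M.hom]
    (w : ∀ n, Red.bc (li A n) M ⟶ Red.bc (li A n) G) (hw : ∀ n, Compat A n (w (n + 1)) (w n)) :
    ∃ f : M ⟶ G, ∀ n, (Over.pullback (li A n)).map f = w n := by
  obtain ⟨B, _, _, _, ⟨e⟩⟩ := exists_model A M
  obtain ⟨f, hf⟩ := exists_hom_limit_sp A B (fun n => (Over.pullback (li A n)).map e.hom ≫ w n)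
    fun n => (hw n).comp A e.hom
  exact ⟨e.inv ≫ f, fun n => by
    rw [Functor.map_comp, hf, ← Category.assoc, ← Functor.map_comp, e.inv_hom_id, CategoryTheory.Functor.map_id,
      Category.id_comp]⟩

/-- A morphism of finite groups which is a homomorphism on every thickening is one. -/
theorem mul_comp_of_levels {M G : Over (Spec (CommRingCat.of A))} [GrpObj M] [GrpObj G] [IsFinite M.hom] (f : M ⟶ G)
    (w : ∀ n, Red.bc (li A n) M ⟶ Red.bc (li A n) G) [∀ n, IsMonHom (w n)]
    (hf : ∀ n, (Over.pullback (li A n)).map f = w n) :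
    ∀ (X : Over (Spec (CommRingCat.of A))) (a b : X ⟶ M), (a * b) ≫ f = (a ≫ f) * (b ≫ f) := by
  haveI : IsFinite (M ⊗ M).hom := inferInstanceAs (IsFinite (pullback.fst M.hom M.hom ≫ M.hom))
  have key : (fst M M * snd M M) ≫ f = (fst M M ≫ f) * (snd M M ≫ f) := by
    refine hom_ext_limit A _ _ fun n => ?_
    let F := Over.pullback (li A n)
    have hm : ∀ (Y : Over (Spec (CommRingCat.of A))) [GrpObj Y] (a b : M ⊗ M ⟶ Y),
        F.map (a * b) = F.map a * F.map b := fun Y _ a b => map_mul (F.homMonoidHom (X := M ⊗ M) (M := Y)) a b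
    rw [Functor.map_comp, hm, hm, Functor.map_comp, Functor.map_comp, hf, MonObj.mul_comp]
  intro X a b
  have h := congrArg (lift a b ≫ ·) key
  simpa only [MonObj.comp_mul, ← Category.assoc, lift_fst, lift_snd] using h

end Groth.Agent.CentLift20
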